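import Cfsg.Agent.LieClassical.OrthFinite

/-!
# S3499 (task 6065, helper112): orthogonal decompositions, linear algebra

`Dec Q k D` : `D 0, …, D (t-1)` pairwise orthogonal, nondegenerate, isometric of dimension `k`, spanning `V`.

* `Dec.glue` : isometric embeddings of the `D i` with pairwise orthogonal images glue to an isometry;
* `Dec.neg_pair` : the isometry which is `-1` on `D i ⊥ D j` and `1` on the others is in `⁅O Q, O Q⁆`;
* `Dec.move` : a reflection moving `D i` to no `D l`.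
-/

set_option autoImplicit false

namespace Cfsg.Agent.H112.OC2

open QuadraticMap Cfsg.Agent.LieClassical.OrthCore Cfsg.Agent.LieClassical.OrthTrans
open scoped commutatorElement

variable {F V : Type*} [Field F] [AddCommGroup V] [Module F V] {Q : QuadraticForm F V}

/-- an orthogonal decomposition into isometric nondegenerate subspaces -/
structure Dec (Q : QuadraticForm F V) {t : ℕ} (k : ℕ) (D : Fin t → Submodule F V) : Prop where
  fr : ∀ i, Module.finrank F (D i) = k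
  nd : ∀ i, ∀ w ∈ D i, w ≠ 0 → ∃ y ∈ D i, polar Q w y ≠ 0
  orth : ∀ i j, i ≠ j → ∀ u ∈ D i, ∀ v ∈ D j, polar Q u v = 0
  indep : iSupIndep D
  top : iSup D = ⊤
  iso : ∀ i j, ∃ e : D i ≃ₗ[F] D j, ∀ w, Q (e w : V) = Q (w : V)

/-- `g` permutes the family `D` -/
def Pres {t : ℕ} (D : Fin t → Submodule F V) (g : V ≃ₗ[F] V) : Prop :=
  ∃ σ : Equiv.Perm (Fin t), ∀ i, ∀ w ∈ D i, g w ∈ D (σ i)

section

variable {t k : ℕ} {D : Fin t → Submodule F V}

namespace Dec

variable (hD : Dec Q k D)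

include hD

theorem disj {i j : Fin t} (hij : i ≠ j) {w : V} (h1 : w ∈ D i) (h2 : w ∈ D j) : w = 0 := by
  by_contra h0
  obtain ⟨y, hy, h3⟩ := hD.nd i w h1 h0
  apply h3
  rw [polar_comm]
  exact hD.orth i j hij y hy w h2

theorem ext {f g : V →ₗ[F] V} (h : ∀ i, ∀ w ∈ D i, f w = g w) : f = g := by
  apply LinearMap.ext
  intro v
  have hv : v ∈ iSup D := by rw [hD.top]; trivial
  induction hv using Submodule.iSup_induction' with
  | mem i x hx => exact h i x hx
  | zero => rw [map_zero, map_zero]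
  | add x y _ _ hx hy => rw [map_add, map_add, hx, hy]

theorem ext_equiv {f g : V ≃ₗ[F] V} (h : ∀ i, ∀ w ∈ D i, f w = g w) : f = g := by
  apply LinearEquiv.toLinearMap_injective
  exact hD.ext h

theorem mem_of_inv [FiniteDimensional F V] {g : V ≃ₗ[F] V} {i j : Fin t} (h : ∀ w ∈ D i, g w ∈ D j) :
    ∀ w ∈ D j, g⁻¹ w ∈ D i := by
  have h1 : (D i).map g.toLinearMap = D j := by
    apply Submodule.eq_of_le_of_finrank_eq
    · rintro _ ⟨w, hw, rfl⟩
      exact h w hw
    · rw [LinearEquiv.finrank_map_eq, hD.fr, hD.fr]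
  intro w hw
  rw [← h1] at hw
  obtain ⟨y, hy, rfl⟩ := hw
  have h2 : g⁻¹ (g y) = y := g.symm_apply_apply y
  show g⁻¹ (g y) ∈ D i
  rw [h2]
  exact hy

theorem isInternal : DirectSum.IsInternal D :=
  DirectSum.isInternal_submodule_of_iSupIndep_of_iSup_eq_top hD.indep hD.top

/-- Gluing linear maps. -/
theorem exists_lin (e : ∀ i, D i →ₗ[F] V) : ∃ g : V →ₗ[F] V, ∀ i (w : D i), g w = e i w := by
  classical
  let E : (DirectSum (Fin t) fun i => D i) ≃ₗ[F] V :=
    LinearEquiv.ofBijective (DirectSum.coeLinearMap D) hD.isInternal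
  refine ⟨(DirectSum.toModule F (Fin t) V e).comp E.symm.toLinearMap, fun i w => ?_⟩
  have h1 : E.symm (w : V) = DirectSum.lof F (Fin t) (fun i => D i) i w := by
    rw [LinearEquiv.symm_apply_eq]
    exact (DirectSum.coeLinearMap_lof D i w).symm
  rw [LinearMap.comp_apply, LinearEquiv.coe_coe, h1, DirectSum.toModule_lof]

/-- Gluing isometries. -/
theorem glue [FiniteDimensional F V] (hQ : Nondeg Q) (e : ∀ i, D i →ₗ[F] V) (he : ∀ i w, Q (e i w) = Q (w : V))
    (ho : ∀ i j, i ≠ j → ∀ u v, polar Q (e i u) (e j v) = 0) : ∃ g ∈ O Q, ∀ i (w : D i), g w = e i w := by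
  obtain ⟨G, hG⟩ := hD.exists_lin e
  have hp : ∀ u v, polar Q (G u) (G v) = polar Q u v := by
    intro u v
    have hu : u ∈ iSup D := by rw [hD.top]; trivial
    have hv : v ∈ iSup D := by rw [hD.top]; trivial
    induction hu using Submodule.iSup_induction' with
    | zero => rw [map_zero, polar_zero_left, polar_zero_left]
    | add x y _ _ hx hy => rw [map_add, polar_add_left, polar_add_left, hx, hy]
    | mem i x hx =>
      induction hv using Submodule.iSup_induction' with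
      | zero => rw [map_zero, polar_zero_right, polar_zero_right]
      | add y z _ _ hy hz => rw [map_add, polar_add_right, polar_add_right, hy, hz]
      | mem j y hy =>
        by_cases hij : i = j
        · subst hij
          have h1 := he i (⟨x, hx⟩ + ⟨y, hy⟩)
          have h2 := he i ⟨x, hx⟩
          have h3 := he i ⟨y, hy⟩
          rw [map_add] at h1
          rw [hG i ⟨x, hx⟩, hG i ⟨y, hy⟩, polar, polar, h1, h2, h3]
          rfl
        · rw [hG i ⟨x, hx⟩, hG j ⟨y, hy⟩, ho i j hij, hD.orth i j hij x hx y hy]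
  have hq : ∀ v, Q (G v) = Q v := by
    intro v
    have hv : v ∈ iSup D := by rw [hD.top]; trivial
    induction hv using Submodule.iSup_induction' with
    | zero => rw [map_zero]
    | add x y _ _ hx hy => rw [map_add, Q_add, Q_add, hx, hy, hp]
    | mem i x hx => exact (congrArg Q (hG i ⟨x, hx⟩)).trans (he i ⟨x, hx⟩)
  have hinj : Function.Injective G := by
    rw [← LinearMap.ker_eq_bot, LinearMap.ker_eq_bot']
    intro v hv
    apply hQ
    intro y
    rw [← hp, hv, polar_zero_left]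
  refine ⟨LinearEquiv.ofInjectiveEndo G hinj, fun v => ?_, fun i w => ?_⟩
  · rw [LinearEquiv.coe_ofInjectiveEndo]
    exact hq v
  · rw [LinearEquiv.coe_ofInjectiveEndo]
    exact hG i w

/-- an isometry permuting the `D i` as prescribed -/
theorem exists_perm [FiniteDimensional F V] (hQ : Nondeg Q) (σ : Equiv.Perm (Fin t)) :
    ∃ g ∈ O Q, ∀ i, ∀ w ∈ D i, g w ∈ D (σ i) := by
  choose e he using fun i => hD.iso i (σ i)
  obtain ⟨g, hg, h1⟩ := hD.glue hQ (fun i => (D (σ i)).subtype.comp (e i).toLinearMap) (fun i w => he i w)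
    (fun i j hij u v => hD.orth _ _ (fun h => hij (σ.injective h)) _ (e i u).2 _ (e j v).2)
  refine ⟨g, hg, fun i w hw => ?_⟩
  rw [show g w = _ from h1 i ⟨w, hw⟩]
  exact (e i ⟨w, hw⟩).2

/-- an isometry with prescribed signs -/
theorem exists_sgn [FiniteDimensional F V] (hQ : Nondeg Q) (ε : Fin t → F) (hε : ∀ i, ε i * ε i = 1) :
    ∃ g ∈ O Q, ∀ i, ∀ w ∈ D i, g w = ε i • w := by
  obtain ⟨g, hg, h1⟩ := hD.glue hQ (fun i => ε i • (D i).subtype) (fun i w => by
      rw [LinearMap.smul_apply, Submodule.subtype_apply, QuadraticMap.map_smul, hε, one_smul])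
    (fun i j hij u v => by
      rw [LinearMap.smul_apply, LinearMap.smul_apply, Submodule.subtype_apply, Submodule.subtype_apply,
        polar_smul_left, polar_smul_right, hD.orth i j hij _ u.2 _ v.2, smul_zero, smul_zero])
  exact ⟨g, hg, fun i w hw => h1 i ⟨w, hw⟩⟩

/-- the isometry which is `-1` on `D i ⊥ D j` and `1` on the others is in `⁅O Q, O Q⁆` -/
theorem neg_pair [FiniteDimensional F V] (hQ : Nondeg Q) {i j : Fin t} (hij : i ≠ j) :
    ∃ g ∈ ⁅O Q, O Q⁆, (∀ w ∈ D i, g w = -w) ∧ (∀ w ∈ D j, g w = -w) ∧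
      ∀ l, l ≠ i → l ≠ j → ∀ w ∈ D l, g w = w := by
  obtain ⟨s, hs, h1⟩ := hD.exists_perm hQ (Equiv.swap i j)
  obtain ⟨c, hc, h2⟩ := hD.exists_sgn hQ (fun l => if l = i then -1 else 1) (fun l => by split_ifs <;> simp)
  have hs' : ∀ l, ∀ w ∈ D l, s⁻¹ w ∈ D (Equiv.swap i j l) := by
    intro l w hw
    refine hD.mem_of_inv (h1 (Equiv.swap i j l)) w ?_
    rwa [Equiv.swap_apply_self]
  have hc' : ∀ l, ∀ w ∈ D l, c⁻¹ w = (if l = i then (-1 : F) else 1) • w := by
    intro l w hw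
    have h3 := h2 l _ ((D l).smul_mem (if l = i then (-1 : F) else 1) hw)
    have h4 : c⁻¹ (c ((if l = i then (-1 : F) else 1) • w)) = (if l = i then (-1 : F) else 1) • w :=
      c.symm_apply_apply _
    rw [h3, smul_smul] at h4
    have h5 : (if l = i then (-1 : F) else 1) * (if l = i then (-1 : F) else 1) = 1 := by split_ifs <;> simp
    rw [h5, one_smul] at h4
    exact h4
  have key : ∀ l, ∀ w ∈ D l, ⁅s, c⁆ w =
      ((if Equiv.swap i j l = i then (-1 : F) else 1) * (if l = i then (-1 : F) else 1)) • w := by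
    intro l w hw
    have e1 : ⁅s, c⁆ w = s (c (s⁻¹ (c⁻¹ w))) := rfl
    rw [e1, hc' l w hw, map_smul, map_smul, map_smul, h2 _ _ (hs' l w hw), map_smul, smul_smul]
    have e2 : s (s⁻¹ w) = w := s.apply_symm_apply w
    rw [e2, mul_comm]
  refine ⟨⁅s, c⁆, Subgroup.commutator_mem_commutator hs hc, fun w hw => ?_, fun w hw => ?_, fun l hl1 hl2 w hw => ?_⟩
  · rw [key i w hw, Equiv.swap_apply_left, if_neg hij.symm, if_pos rfl, one_mul, neg_smul, one_smul]
  · rw [key j w hw, Equiv.swap_apply_right, if_neg hij.symm, if_pos rfl, mul_one, neg_smul, one_smul]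
  · rw [key l w hw, Equiv.swap_apply_of_ne_of_ne hl1 hl2, if_neg hl1, mul_one, one_smul]

end Dec

theorem exists_perp_mem {W : Submodule F V} (hW : 2 ≤ Module.finrank F W) (u : V) :
    ∃ z ∈ W, z ≠ 0 ∧ polar Q u z = 0 := by
  have : Module.Finite F W := Module.finite_of_finrank_pos (by omega)
  let f : W →ₗ[F] F := (polarBilin Q u).comp W.subtype
  have hker : LinearMap.ker f ≠ ⊥ := by
    apply LinearMap.ker_ne_bot_of_finrank_lt
    rw [Module.finrank_self]
    omega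
  obtain ⟨w, hw, hw0⟩ := Submodule.exists_mem_ne_zero_of_ne_bot hker
  refine ⟨w, w.2, fun h => hw0 (Subtype.ext h), ?_⟩
  exact LinearMap.mem_ker.1 hw

theorem exists_perp_mem2 {W : Submodule F V} (hW : 3 ≤ Module.finrank F W) (u : V) :
    ∃ z ∈ W, (∀ c : F, z ≠ c • u) ∧ polar Q u z = 0 := by
  have : Module.Finite F W := Module.finite_of_finrank_pos (by omega)
  let f : W →ₗ[F] F := (polarBilin Q u).comp W.subtype
  have h1 : 2 ≤ Module.finrank F (LinearMap.ker f) := by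
    have h2 := LinearMap.finrank_range_add_finrank_ker f
    have h3 := Submodule.finrank_le (LinearMap.range f)
    rw [Module.finrank_self] at h3
    omega
  by_contra hcon
  push Not at hcon
  have h4 : (LinearMap.ker f).map W.subtype ≤ Submodule.span F {u} := by
    rintro _ ⟨z, hz, rfl⟩
    obtain ⟨c, hc⟩ : ∃ c : F, (z : V) = c • u := by
      by_contra hne
      push Not at hne
      exact hcon z z.2 hne (LinearMap.mem_ker.1 hz)
    rw [Submodule.mem_span_singleton]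
    exact ⟨c, hc.symm⟩
  have h5 := Submodule.finrank_mono h4
  rw [Submodule.finrank_map_subtype_eq] at h5
  have h6 : Module.finrank F (Submodule.span F {u}) ≤ 1 := by
    have := finrank_span_le_card (R := F) ({u} : Set V)
    simpa using this
  omega

/-- two vectors of `W` and a third one carrying the sum of their values -/
def PP (Q : QuadraticForm F V) (W : Submodule F V) : Prop :=
  ∃ u ∈ W, ∃ u' ∈ W, ∃ u'' ∈ W, u ≠ 0 ∧ u' ≠ 0 ∧ Q u'' = Q u + Q u' ∧ Q u'' ≠ 0

theorem exists_nonsing_mem {W : Submodule F V} (h : ∀ w ∈ W, w ≠ 0 → ∃ y ∈ W, polar Q w y ≠ 0) {w : V} (hw : w ∈ W)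
    (hw0 : w ≠ 0) : ∃ u ∈ W, Q u ≠ 0 := by
  obtain ⟨y, hy, h1⟩ := h w hw hw0
  by_contra hcon
  push Not at hcon
  apply h1
  rw [polar, hcon _ (W.add_mem hw hy), hcon w hw, hcon y hy]
  ring

namespace Dec

variable (hD : Dec Q k D)

include hD

theorem exists_ne (hk : 1 ≤ k) (i : Fin t) : ∃ w ∈ D i, w ≠ 0 := by
  have h1 : D i ≠ ⊥ := by
    intro e
    have := hD.fr i
    rw [e, finrank_bot] at this
    omega
  obtain ⟨w, hw, h0⟩ := Submodule.exists_mem_ne_zero_of_ne_bot h1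
  exact ⟨w, hw, h0⟩

theorem exists_nonsing (hk : 1 ≤ k) (i : Fin t) : ∃ u ∈ D i, Q u ≠ 0 := by
  obtain ⟨w, hw, h0⟩ := hD.exists_ne hk i
  exact exists_nonsing_mem (hD.nd i) hw h0

/-- a vector of `D j` with the same value -/
theorem exists_copy {i : Fin t} (j : Fin t) {u : V} (hu : u ∈ D i) (hu0 : u ≠ 0) :
    ∃ w ∈ D j, w ≠ 0 ∧ Q w = Q u := by
  obtain ⟨e, he⟩ := hD.iso i j
  refine ⟨e ⟨u, hu⟩, (e ⟨u, hu⟩).2, ?_, he ⟨u, hu⟩⟩
  intro h0
  apply hu0
  have h1 : e ⟨u, hu⟩ = 0 := Subtype.ext h0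
  rw [LinearEquiv.map_eq_zero_iff] at h1
  exact congrArg Subtype.val h1

/-- A reflection moving `D i` to no `D l`. -/
theorem move (hk : 2 ≤ k) {i : Fin t} {u w v : V} (hv : Q v ≠ 0) (hvu : v = u + w) (hu : u ∈ D i) (hu0 : u ≠ 0)
    (hw0 : w ≠ 0) (hw : ∀ y ∈ D i, polar Q w y = 0) (l : Fin t) : ¬ ∀ y ∈ D i, refl Q v hv y ∈ D l := by
  intro hcon
  have hpol : ∀ y ∈ D i, polar Q v y = polar Q u y := by
    intro y hy
    rw [hvu, polar_add_left, hw y hy, add_zero]
  obtain ⟨z, hz, hz0, huz⟩ := exists_perp_mem (Q := Q) (W := D i) (by rw [hD.fr]; exact hk) u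
  have h1 : refl Q v hv z = z := by
    rw [refl_apply, hpol z hz, huz, mul_zero, zero_smul, sub_zero]
  have h2 := hcon z hz
  rw [h1] at h2
  have hli : l = i := by
    by_contra hne
    exact hz0 (hD.disj hne h2 hz)
  subst hli
  obtain ⟨y, hy, huy⟩ := hD.nd l u hu hu0
  have h3 := hcon y hy
  rw [refl_apply, hpol y hy] at h3
  have h4 : ((Q v)⁻¹ * polar Q u y) • v ∈ D l := by
    have := (D l).sub_mem hy h3
    rwa [sub_sub_cancel] at this
  have h5 : v ∈ D l := ((D l).smul_mem_iff (mul_ne_zero (inv_ne_zero hv) huy)).1 h4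
  have h6 : w ∈ D l := by
    have := (D l).sub_mem h5 hu
    rwa [hvu, add_sub_cancel_left] at this
  obtain ⟨y', hy', h7⟩ := hD.nd l w h6 hw0
  exact h7 (hw y' hy')

theorem pp_all {i : Fin t} (h : PP Q (D i)) (j : Fin t) : PP Q (D j) := by
  obtain ⟨e, he⟩ := hD.iso i j
  obtain ⟨u, hu, u', hu', u'', hu'', h1, h2, h3, h4⟩ := h
  have hne : ∀ {w : V} (hw : w ∈ D i), w ≠ 0 → (e ⟨w, hw⟩ : V) ≠ 0 := by
    intro w hw hw0 h0
    apply hw0
    have h1 : e ⟨w, hw⟩ = 0 := Subtype.ext h0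
    rw [LinearEquiv.map_eq_zero_iff] at h1
    exact congrArg Subtype.val h1
  have e1 : Q (e ⟨u, hu⟩ : V) = Q u := he ⟨u, hu⟩
  have e2 : Q (e ⟨u', hu'⟩ : V) = Q u' := he ⟨u', hu'⟩
  have e3 : Q (e ⟨u'', hu''⟩ : V) = Q u'' := he ⟨u'', hu''⟩
  refine ⟨e ⟨u, hu⟩, (e ⟨u, hu⟩).2, e ⟨u', hu'⟩, (e ⟨u', hu'⟩).2, e ⟨u'', hu''⟩, (e ⟨u'', hu''⟩).2, hne hu h1,
    hne hu' h2, ?_, ?_⟩
  · rw [e1, e2, e3]
    exact h3
  · rw [e3]
    exact h4

/-- `PP` or anisotropic planes in characteristic two -/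
theorem pp_or (hk : 2 ≤ k) (i : Fin t) :
    PP Q (D i) ∨ (k = 2 ∧ (2 : F) = 0 ∧ ∀ w ∈ D i, w ≠ 0 → Q w ≠ 0) := by
  by_cases hP : PP Q (D i)
  · exact Or.inl hP
  right
  obtain ⟨u, hu, hQu⟩ := hD.exists_nonsing (by omega) i
  have hu0 : u ≠ 0 := by
    rintro rfl
    exact hQu (map_zero Q)
  have han : ∀ w ∈ D i, w ≠ 0 → Q w ≠ 0 := by
    intro w hw hw0 hQw
    exact hP ⟨u, hu, w, hw, u, hu, hu0, hw0, by rw [hQw, add_zero], hQu⟩
  have hperp : ∀ z ∈ D i, z ≠ 0 → polar Q u z = 0 → z = -u := by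
    intro z hz hz0 huz
    by_contra hne
    have h1 : u + z ≠ 0 := fun h => hne (by rw [eq_neg_iff_add_eq_zero, add_comm]; exact h)
    exact hP ⟨u, hu, z, hz, u + z, (D i).add_mem hu hz, hu0, hz0, by rw [Q_add, huz, add_zero],
      han _ ((D i).add_mem hu hz) h1⟩
  refine ⟨?_, ?_, han⟩
  · by_contra hne
    obtain ⟨z, hz, h1, h2⟩ := exists_perp_mem2 (Q := Q) (W := D i) (by rw [hD.fr]; omega) u
    have h3 := hperp z hz (fun h => h1 0 (by rw [h, zero_smul])) h2
    exact h1 (-1) (by rw [h3, neg_smul, one_smul])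
  · obtain ⟨z, hz, hz0, huz⟩ := exists_perp_mem (Q := Q) (W := D i) (by rw [hD.fr]; exact hk) u
    have h3 := hperp z hz hz0 huz
    rw [h3, polar_neg_right, polar_self', neg_eq_zero] at huz
    exact (mul_eq_zero.1 huz).resolve_right hQu

/-- the two vectors for two blocks -/
theorem pair_vec (hk : 2 ≤ k) {i j : Fin t} (hij : i ≠ j) (hP : PP Q (D i)) :
    ∃ v v' : V, ∃ hv : Q v ≠ 0, Q v' = Q v ∧ v ∈ D i ⊔ D j ∧ v' ∈ D i ∧
      ∀ l, ¬ ∀ y ∈ D i, refl Q v hv y ∈ D l := by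
  obtain ⟨u, hu, u', hu', u'', hu'', h1, h2, h3, h4⟩ := hP
  obtain ⟨w, hw, hw0, hQw⟩ := hD.exists_copy j hu' h2
  have e : Q (u + w) = Q u'' := by
    rw [Q_add, hD.orth i j hij u hu w hw, hQw, h3, add_zero]
  refine ⟨u + w, u'', by rw [e]; exact h4, e.symm, ?_, hu'', ?_⟩
  · exact Submodule.add_mem_sup hu hw
  · exact hD.move hk _ rfl hu h1 hw0 (fun y hy => hD.orth j i hij.symm w hw y hy)

/-- vectors for the criterion -/
theorem exists_mv (hk : 2 ≤ k) (ht : 3 ≤ t) (htk : 7 ≤ t * k) :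
    ∃ i l : Fin t, i ≠ l ∧ ∃ v v' : V, ∃ hv : Q v ≠ 0, Q v' = Q v ∧ v' ∈ D i ∧ (∀ y ∈ D l, polar Q v y = 0) ∧
      ∀ l', ¬ ∀ y ∈ D i, refl Q v hv y ∈ D l' := by
  let i0 : Fin t := ⟨0, by omega⟩
  let i1 : Fin t := ⟨1, by omega⟩
  let i2 : Fin t := ⟨2, by omega⟩
  have h01 : i0 ≠ i1 := by simp [i0, i1]
  have h02 : i0 ≠ i2 := by simp [i0, i2]
  have h12 : i1 ≠ i2 := by simp [i1, i2]
  rcases hD.pp_or hk i0 with hP | ⟨hk2, h2, han⟩
  · obtain ⟨v, v', hv, h3, h4, h5, h6⟩ := hD.pair_vec hk h01 hP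
    refine ⟨i0, i2, h02, v, v', hv, h3, h5, fun y hy => ?_, h6⟩
    obtain ⟨a, ha, b, hb, rfl⟩ := Submodule.mem_sup.1 h4
    rw [polar_add_left, hD.orth i0 i2 h02 a ha y hy, hD.orth i1 i2 h12 b hb y hy, add_zero]
  · have ht4 : 4 ≤ t := by
      rw [hk2] at htk
      omega
    let i3 : Fin t := ⟨3, by omega⟩
    have h03 : i0 ≠ i3 := by simp [i0, i3]
    have h13 : i1 ≠ i3 := by simp [i1, i3]
    have h23 : i2 ≠ i3 := by simp [i2, i3]
    obtain ⟨u, hu, hQu⟩ := hD.exists_nonsing (by omega) i0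
    have hu0 : u ≠ 0 := by
      rintro rfl
      exact hQu (map_zero Q)
    obtain ⟨u1, hu1, hu10, hQu1⟩ := hD.exists_copy i1 hu hu0
    obtain ⟨u2, hu2, hu20, hQu2⟩ := hD.exists_copy i2 hu hu0
    have e1 : Q (u1 + u2) = 0 := by
      rw [Q_add, hD.orth i1 i2 h12 u1 hu1 u2 hu2, hQu1, hQu2, add_zero, ← two_mul, h2, zero_mul]
    have e2 : Q (u + (u1 + u2)) = Q u := by
      rw [Q_add, e1, polar_add_right, hD.orth i0 i1 h01 u hu u1 hu1, hD.orth i0 i2 h02 u hu u2 hu2]
      ring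
    refine ⟨i0, i3, h03, u + (u1 + u2), u, by rw [e2]; exact hQu, e2.symm, hu, fun y hy => ?_, ?_⟩
    · rw [polar_add_left, polar_add_left, hD.orth i0 i3 h03 u hu y hy, hD.orth i1 i3 h13 u1 hu1 y hy,
        hD.orth i2 i3 h23 u2 hu2 y hy, add_zero, add_zero]
    · refine hD.move hk _ rfl hu hu0 ?_ (fun y hy => ?_)
      · intro h0
        have : u1 = -u2 := eq_neg_of_add_eq_zero_left h0
        apply hu10
        refine hD.disj h12 hu1 ?_
        rw [this]
        exact (D i2).neg_mem hu2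
      · rw [polar_add_left, hD.orth i1 i0 h01.symm u1 hu1 y hy, hD.orth i2 i0 h02.symm u2 hu2 y hy, add_zero]

end Dec

/-- the hyperbolic plane over the field with two elements -/
structure Exc (Q : QuadraticForm F V) (W : Submodule F V) (u : V) : Prop where
  mem : u ∈ W
  ns : Q u ≠ 0
  uniq : ∀ y ∈ W, Q y ≠ 0 → y = u
  perp : ∀ y ∈ W, polar Q u y = 0 → y = 0 ∨ y = u

/-- In characteristic two the nonsingular vectors span, except in the hyperbolic plane over the field with two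
elements. -/
theorem exc_of (h2 : (2 : F) = 0) {W : Submodule F V} (hnd : ∀ w ∈ W, w ≠ 0 → ∃ y ∈ W, polar Q w y ≠ 0)
    (hspan : ¬ W ≤ Submodule.span F {u | u ∈ W ∧ Q u ≠ 0}) :
    ∃ u, Exc Q W u ∧ ∃ w ∈ W, w ≠ 0 ∧ Q w = 0 := by
  set S := Submodule.span F {u | u ∈ W ∧ Q u ≠ 0} with hS
  have hSW : S ≤ W := by
    rw [hS, Submodule.span_le]
    exact fun u hu => hu.1
  have hneg : ∀ a : F, -a = a := fun a => by linear_combination (-a) * h2
  have hnegV : ∀ a : V, -a = a := fun a => by rw [← neg_one_smul F a, hneg, one_smul]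
  -- (1)
  have h1 : ∀ w ∈ W, w ∉ S → ∀ u ∈ S, Q (w + u) = 0 := by
    intro w hw hwS u hu
    by_contra hne
    apply hwS
    have h3 : w + u ∈ S := Submodule.subset_span ⟨W.add_mem hw (hSW hu), hne⟩
    have := S.sub_mem h3 hu
    rwa [add_sub_cancel_right] at this
  have h1' : ∀ w ∈ W, w ∉ S → ∀ u ∈ S, polar Q u w = Q u := by
    intro w hw hwS u hu
    have h3 := h1 w hw hwS u hu
    have h4 := h1 w hw hwS 0 S.zero_mem
    rw [add_zero] at h4
    rw [Q_add, h4, zero_add, polar_comm] at h3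
    linear_combination h3 - Q u * h2
  obtain ⟨w, hw, hwS⟩ := Set.not_subset.1 hspan
  have hw0 : w ≠ 0 := fun h => hwS (by rw [h]; exact S.zero_mem)
  have hQw : Q w = 0 := by
    have := h1 w hw hwS 0 S.zero_mem
    rwa [add_zero] at this
  obtain ⟨u, hu, hQu⟩ := exists_nonsing_mem hnd hw hw0
  have huS : u ∈ S := Submodule.subset_span ⟨hu, hQu⟩
  -- the field
  have hF : ∀ a : F, a = 0 ∨ a = 1 := by
    intro a
    have h3 := h1' w hw hwS (a • u) (S.smul_mem a huS)
    rw [polar_smul_left, h1' w hw hwS u huS, QuadraticMap.map_smul, smul_eq_mul, smul_eq_mul] at h3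
    have h4 : a * (1 - a) = 0 := by
      have h5 : (a * (1 - a)) * Q u = 0 := by linear_combination h3
      exact (mul_eq_zero.1 h5).resolve_right hQu
    rcases mul_eq_zero.1 h4 with h5 | h5
    · exact Or.inl h5
    · exact Or.inr (sub_eq_zero.1 h5).symm
  -- (2)
  have h3 : ∀ a ∈ S, ∀ b ∈ S, polar Q a b = 0 := by
    intro a ha b hb
    have e1 := h1' w hw hwS a ha
    have e2 := h1' w hw hwS b hb
    have e3 := h1' w hw hwS (a + b) (S.add_mem ha hb)
    rw [polar_add_left, e1, e2, Q_add] at e3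
    linear_combination -e3
  have h4 : ∀ a ∈ S, a ≠ 0 → Q a = 1 := by
    intro a ha ha0
    rcases hF (Q a) with h5 | h5
    · exfalso
      obtain ⟨y, hy, h6⟩ := hnd a (hSW ha) ha0
      apply h6
      by_cases hyS : y ∈ S
      · exact h3 a ha y hyS
      · rw [h1' y hy hyS a ha, h5]
    · exact h5
  have hu0 : u ≠ 0 := by
    rintro rfl
    exact hQu (map_zero Q)
  have h5 : ∀ a ∈ S, a ≠ 0 → a = u := by
    intro a ha ha0
    by_contra hne
    have h6 : a + u ≠ 0 := by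
      intro h
      apply hne
      rw [eq_neg_of_add_eq_zero_left h, hnegV]
    have h7 := h4 (a + u) (S.add_mem ha huS) h6
    rw [Q_add, h4 a ha ha0, h4 u huS hu0, h3 a ha u huS] at h7
    have h8 : (1 : F) = 0 := by linear_combination h7
    exact one_ne_zero h8
  refine ⟨u, ⟨hu, hQu, fun y hy hQy => ?_, fun y hy hp => ?_⟩, w, hw, hw0, hQw⟩
  · refine h5 y (Submodule.subset_span ⟨hy, hQy⟩) ?_
    rintro rfl
    exact hQy (map_zero Q)
  · by_cases hyS : y ∈ S
    · by_cases hy0 : y = 0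
      · exact Or.inl hy0
      · exact Or.inr (h5 y hyS hy0)
    · exfalso
      rw [h1' y hy hyS u huS] at hp
      exact hQu hp

namespace Dec

variable (hD : Dec Q k D)

include hD

theorem exc_le {i : Fin t} {u : V} (hu : Exc Q (D i) u) : k ≤ 2 := by
  by_contra hne
  obtain ⟨z, hz, h1, h2⟩ := exists_perp_mem2 (Q := Q) (W := D i) (by rw [hD.fr]; omega) u
  rcases hu.perp z hz h2 with h3 | h3
  · exact h1 0 (by rw [h3, zero_smul])
  · exact h1 1 (by rw [h3, one_smul])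

theorem exc_all {i : Fin t} {u : V} (hu : Exc Q (D i) u) (j : Fin t) : ∃ u', Exc Q (D j) u' := by
  obtain ⟨e, he⟩ := hD.iso i j
  have hp : ∀ a b : D i, polar Q (e a : V) (e b : V) = polar Q (a : V) (b : V) := by
    intro a b
    have h1 := he (a + b)
    rw [map_add] at h1
    rw [polar, polar, he a, he b]
    rw [show (e a : V) + (e b : V) = ((e a + e b : D j) : V) from rfl, h1]
    rfl
  refine ⟨e ⟨u, hu.mem⟩, (e ⟨u, hu.mem⟩).2, ?_, ?_, ?_⟩
  · rw [he ⟨u, hu.mem⟩]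
    exact hu.ns
  · intro y hy hQy
    obtain ⟨x, hx⟩ := e.surjective ⟨y, hy⟩
    have h1 : Q (x : V) ≠ 0 := by
      rw [← he x, hx]
      exact hQy
    have h2 : x = ⟨u, hu.mem⟩ := Subtype.ext (hu.uniq x x.2 h1)
    rw [← h2, hx]
  · intro y hy h1
    obtain ⟨x, hx⟩ := e.surjective ⟨y, hy⟩
    have h2 : polar Q u (x : V) = 0 := by
      rw [← h1, ← hp ⟨u, hu.mem⟩ x, hx]
    rcases hu.perp x x.2 h2 with h3 | h3
    · left
      have h4 : x = 0 := Subtype.ext h3
      rw [h4, map_zero] at hx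
      exact (congrArg Subtype.val hx).symm
    · right
      have h4 : x = ⟨u, hu.mem⟩ := Subtype.ext h3
      rw [← h4, hx]

end Dec

end

end Cfsg.Agent.H112.OC2
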