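import Cfsg.Agent.H112.OC2.Main
import Cfsg.Agent.H419.EP.Iface
import Cfsg.Agent.H884.OmegaGL
import Cfsg.Agent.H778.EP.OmAsm

/-!
# S3499-III-Om-C2 (task 6065, helper112)

`om_c2` : the preimage `m.hat A ≤ Ω(Q)`, `dim ≥ 7`, of a point stabiliser of an extremely primitive group is not
contained in the stabiliser of an orthogonal decomposition into at least three isometric blocks.
The hypotheses are those of `H925.EvenFine.orth_irreducible_fine` (C2a).
-/

set_option autoImplicit false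

namespace Cfsg.Agent.H112.OC2

open QuadraticMap Cfsg.Agent.LieClassical.OrthCore Cfsg.Agent.LieClassical.OrthTrans
  Cfsg.Agent.LieClassical.OrthFinite Cfsg.Agent.H884.OmegaGL Cfsg.Agent.H284 Cfsg.Agent.H419.EP
open scoped MatrixGroups Matrix

theorem om_c2 {P : Type*} [Group P] [Finite P] {A : Subgroup P} {Γ : Subgroup (MulAut P)} (h : EPT A Γ)
    {F : Type*} [Field F] [Fintype F] {ι : Type} [Fintype ι] [DecidableEq ι] {Qf : (ι → F) → F}
    (m : Model P (Cfsg.Geo.omegaGL Qf)) (hn : 7 ≤ Fintype.card ι) (hQ : Cfsg.Geo.IsNondegenerateQuadraticForm Qf)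
    {t k : ℕ} {D : Fin t → Submodule F (ι → F)} (htk : t * k = Fintype.card ι)
    (hD : Cfsg.Geo.IsOrthogonalMDecomposition Qf k D) (hA : m.hat A ≤ Cfsg.Geo.decompositionStabilizer D)
    (htr : ∀ i j, ∃ h ∈ m.hat A, (D i).map (Matrix.toLin' (h : Matrix ι ι F)) = D j) (ht : 3 ≤ t) : False := by
  have hE : ∀ g : E (bundle Qf hQ), (glEquiv ι F).symm g ∈ Cfsg.Geo.omegaGL Qf := by
    intro g
    rw [mem_omegaGL Qf hQ (by omega), MulEquiv.apply_symm_apply]
    exact g.2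
  let f : E (bundle Qf hQ) →* Cfsg.Geo.omegaGL Qf :=
    ((glEquiv ι F).symm.toMonoidHom.comp (E (bundle Qf hQ)).subtype).codRestrict _ hE
  have hf : ∀ g : E (bundle Qf hQ), glEquiv ι F (f g : GL ι F) = g := fun g => MulEquiv.apply_symm_apply _ _
  have hfa : ∀ (g : E (bundle Qf hQ)) (v : ι → F), ((f g : GL ι F) : Matrix ι ι F) *ᵥ v =
      (g : (ι → F) ≃ₗ[F] (ι → F)) v := by
    intro g v
    rw [← glEquiv_apply, hf]
  have hstab : ∀ g : E (bundle Qf hQ), m.π (f g) ∈ A → Pres D (g : (ι → F) ≃ₗ[F] (ι → F)) := by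
    intro g hg
    obtain ⟨σ, hσ⟩ := hA ((m.mem_hat_iff (f g)).2 hg)
    refine ⟨σ, fun i w hw => ?_⟩
    rw [← hσ i]
    refine ⟨w, hw, ?_⟩
    rw [Matrix.toLin'_apply]
    exact hfa g w
  have c : Ctx A (m.π.comp f) k D := by
    refine ⟨good_bundle Qf hQ (by omega), ⟨hD.decomp.decomp.finrank_eq, ?_, ?_, hD.decomp.decomp.indep,
      hD.decomp.decomp.iSup_eq_top, hD.isometric⟩, ?_, ?_, hstab, ?_⟩
    · intro i w hw hw0
      obtain ⟨-, y, hy, h1⟩ := hD.decomp.nondegenerate i w hw hw0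
      exact ⟨y, hy, h1⟩
    · intro i j hij u hu v hv
      exact hD.decomp.orthogonal i j hij u hu v hv
    · intro p
      obtain ⟨s, rfl⟩ := m.surj p
      refine ⟨⟨glEquiv ι F s, (mem_omegaGL Qf hQ (by omega) _).1 s.2⟩, ?_⟩
      show m.π (f _) = m.π s
      congr 1
      apply Subtype.ext
      exact (glEquiv ι F).symm_apply_apply _
    · intro g hg
      have h1 := (m.ker (f g)).1 hg
      obtain ⟨a, ha⟩ := (Cfsg.Geo.mem_scalars_iff _).1 h1
      refine ⟨a, fun v => ?_⟩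
      rw [← hfa, ha, Matrix.smul_mulVec, Matrix.one_mulVec]
    · intro i j
      obtain ⟨s, hs, h1⟩ := htr i j
      obtain ⟨hsO, hsA⟩ := m.mem_hat.1 hs
      refine ⟨⟨glEquiv ι F s, (mem_omegaGL Qf hQ (by omega) _).1 hsO⟩, ?_, ?_⟩
      · show m.π (f _) ∈ A
        have e : f ⟨glEquiv ι F s, (mem_omegaGL Qf hQ (by omega) _).1 hsO⟩ = ⟨s, hsO⟩ :=
          Subtype.ext ((glEquiv ι F).symm_apply_apply _)
        rw [e]
        exact hsA
      · intro w hw
        rw [← h1]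
        exact ⟨w, hw, rfl⟩
  exact c.kill h hD.decomp.decomp.pos ht (by omega)

/-- the row in the form used by the assembly (helper778) -/
theorem omC2 : Cfsg.Agent.H778.EP.OmC2 := by
  intro P _ _ _ A Γ h F _ _ ι _ _ Qf m hn hQ hC
  obtain ⟨-, t, k, D, htk, ht, hD, hA, htr⟩ := hC
  exact om_c2 h m hn hQ htk hD hA htr ht

end Cfsg.Agent.H112.OC2
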