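import Cfsg.Agent.H284.EP.TForm

/-!
# S3499 (task 6065, helper112): two criteria for extremely primitive groups in the form `EPT A Γ`

* `cent_mem` : `b ≠ 1` in a normal `p`-subgroup of `A`: every element commuting with `b` is in `A`;
* `base_kill` : a normal subgroup `B ≠ 1` of `A`, such that for all `1 ≠ N ≤ B` normal in `A` the centraliser
  of `N` in `A` is contained in `B`: then `A = B (A ∩ A^x)` for every `x ∉ A`.
-/

set_option autoImplicit false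

namespace Cfsg.Agent.H112.OC2

open Subgroup Cfsg.Agent.H284

variable {P : Type*} [Group P] [Finite P] {A : Subgroup P} {Γ : Subgroup (MulAut P)}

/-- the intersection of the maximal `p`-subgroups of `A` -/
def pc (p : ℕ) (A : Subgroup P) : Subgroup P :=
  sInf {R | R ≤ A ∧ IsPGroup p R ∧ ∀ T, T ≤ A → IsPGroup p T → R ≤ T → T ≤ R}

omit [Finite P] in
theorem le_pc {p : ℕ} {N : Subgroup P} (hNA : N ≤ A) (hn : ∀ a ∈ A, ∀ n ∈ N, a * n * a⁻¹ ∈ N) (hN : IsPGroup p N) :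
    N ≤ pc p A := by
  refine le_sInf ?_
  rintro R ⟨h1, h2, h3⟩
  refine le_sup_right.trans (h3 (R ⊔ N) (sup_le h1 hNA) ?_ le_sup_left)
  refine h2.to_sup_of_normal_right' hN ?_
  intro r hr
  rw [Subgroup.mem_normalizer_iff]
  intro n
  refine ⟨fun hn' => hn r (h1 hr) n hn', fun hn' => ?_⟩
  have := hn r⁻¹ (A.inv_mem (h1 hr)) _ hn'
  have e : r⁻¹ * (r * n * r⁻¹) * r⁻¹⁻¹ = n := by group
  rwa [e] at this

theorem exists_max (p : ℕ) (A : Subgroup P) :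
    ∃ R : Subgroup P, R ≤ A ∧ IsPGroup p R ∧ ∀ T, T ≤ A → IsPGroup p T → R ≤ T → T ≤ R := by
  obtain ⟨R, hR⟩ := (Set.toFinite {R : Subgroup P | R ≤ A ∧ IsPGroup p R}).exists_maximal
    ⟨⊥, bot_le, IsPGroup.of_bot⟩
  exact ⟨R, hR.1.1, hR.1.2, fun T h1 h2 h3 => hR.2 ⟨h1, h2⟩ h3⟩

omit [Finite P] in
theorem pc_map {p : ℕ} {σ : MulAut P} (hσ : ∀ a, σ a ∈ A ↔ a ∈ A) {k : P} (hk : k ∈ pc p A) : σ k ∈ pc p A := by
  rw [pc, Subgroup.mem_sInf] at hk ⊢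
  rintro R ⟨h1, h2, h3⟩
  refine hk (R.comap σ.toMonoidHom) ⟨?_, ?_, ?_⟩
  · intro x hx
    exact (hσ x).1 (h1 hx)
  · exact h2.comap_of_injective _ σ.injective
  · intro T hT1 hT2 hT3
    have h4 := h3 (T.map σ.toMonoidHom) ?_ (hT2.map _) ?_
    · intro t ht
      exact h4 ⟨t, ht, rfl⟩
    · rintro _ ⟨t, ht, rfl⟩
      exact (hσ t).2 (hT1 ht)
    · intro r hr
      obtain ⟨s, rfl⟩ := σ.surjective r
      exact ⟨s, hT3 hr, rfl⟩

/-- `b ≠ 1` in a normal `p`-subgroup of `A`: every element commuting with `b` is in `A`. -/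
theorem cent_mem (h : EPT A Γ) {p : ℕ} [hp : Fact p.Prime] {N : Subgroup P} (hNA : N ≤ A)
    (hn : ∀ a ∈ A, ∀ n ∈ N, a * n * a⁻¹ ∈ N) (hN : IsPGroup p N) {b : P} (hb : b ∈ N) (hb1 : b ≠ 1) {x : P}
    (hx : x * b = b * x) : x ∈ A := by
  by_contra hxA
  have h0 := le_pc hNA hn hN
  obtain ⟨R, hR1, hR2, hR3⟩ := exists_max p A
  have h1 : pc p A ≤ R := sInf_le ⟨hR1, hR2, hR3⟩
  have h2 : IsPGroup p (pc p A) := hR2.to_le h1
  have h3 : pc p A ≠ ⊥ := by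
    intro e
    have := h0 hb
    rw [e, mem_bot] at this
    exact hb1 this
  have h4 := h.nilp (pc p A) (h1.trans hR1) (fun σ hσ k hk => pc_map (h.inv σ hσ) hk) h2.isNilpotent h3
  have h5 := (h4.2.2.2.1 x hxA).1
  have h6 : b ∈ pc p A ⊓ cj x A := by
    refine ⟨h0 hb, mem_cj.2 ?_⟩
    have : x⁻¹ * b * x = b := by
      rw [mul_assoc, ← hx, inv_mul_cancel_left]
    rw [this]
    exact hNA hb
  rw [h5, mem_bot] at h6
  exact hb1 h6

/-- **Base criterion.** -/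
theorem base_kill (h : EPT A Γ) {B : Subgroup P} (hBA : B ≤ A) (hBn : ∀ a ∈ A, ∀ b ∈ B, a * b * a⁻¹ ∈ B) (hB : B ≠ ⊥)
    (hG : ∀ N : Subgroup P, N ≤ B → N ≠ ⊥ → (∀ a ∈ A, ∀ n ∈ N, a * n * a⁻¹ ∈ N) → ∀ a ∈ A, (∀ n ∈ N, a * n = n * a) →
      a ∈ B) {x : P} (hx : x ∉ A) {a : P} (ha : a ∈ A) (hno : ∀ b ∈ B, ∀ m ∈ A ⊓ cj x A, a ≠ b * m) : False := by
  obtain ⟨N, ⟨hN1, hN2, hN3⟩, hNmin⟩ := (Set.toFinite {N : Subgroup P | N ≤ B ∧ N ≠ ⊥ ∧
    ∀ a ∈ A, ∀ n ∈ N, a * n * a⁻¹ ∈ N}).exists_minimal ⟨B, le_rfl, hB, hBn⟩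
  -- every conjugate under `Γ` is in `B`
  have hσ : ∀ σ ∈ Γ, N.map σ.toMonoidHom ≤ B := by
    intro σ hσ
    have hn' : ∀ a ∈ A, ∀ n ∈ N.map σ.toMonoidHom, a * n * a⁻¹ ∈ N.map σ.toMonoidHom := by
      rintro a ha _ ⟨n, hn, rfl⟩
      obtain ⟨c, rfl⟩ := σ.surjective a
      refine ⟨c * n * c⁻¹, hN3 c ((h.inv σ hσ c).1 ha) n hn, ?_⟩
      show σ (c * n * c⁻¹) = σ c * σ n * (σ c)⁻¹
      rw [map_mul, map_mul, map_inv]
    have hNA' : N.map σ.toMonoidHom ≤ A := by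
      rintro _ ⟨n, hn, rfl⟩
      exact (h.inv σ hσ n).2 (hBA (hN1 hn))
    by_cases hint : N ⊓ N.map σ.toMonoidHom = ⊥
    · intro a ha
      refine hG N hN1 hN2 hN3 a (hNA' ha) fun n hn => ?_
      have h1 : a * n * a⁻¹ * n⁻¹ ∈ N ⊓ N.map σ.toMonoidHom := by
        refine ⟨N.mul_mem (hN3 a (hNA' ha) n hn) (N.inv_mem hn), ?_⟩
        have e : a * n * a⁻¹ * n⁻¹ = a * (n * a⁻¹ * n⁻¹) := by group
        rw [e]
        exact (N.map σ.toMonoidHom).mul_mem ha (hn' n (hBA (hN1 hn)) _ ((N.map σ.toMonoidHom).inv_mem ha))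
      rw [hint, mem_bot] at h1
      have h2 : a * n * a⁻¹ = n := by rwa [mul_inv_eq_one] at h1
      rw [mul_inv_eq_iff_eq_mul] at h2
      exact h2
    · have h1 : N ≤ N ⊓ N.map σ.toMonoidHom := by
        refine hNmin ⟨inf_le_left.trans hN1, hint, fun a ha n hn => ⟨hN3 a ha n (mem_inf.1 hn).1, hn' a ha n
          (mem_inf.1 hn).2⟩⟩ inf_le_left
      have h2 : N ≤ N.map σ.toMonoidHom := h1.trans inf_le_right
      have h3 : Nat.card (N.map σ.toMonoidHom) = Nat.card N :=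
        (Nat.card_congr (N.equivMapOfInjective _ σ.injective).toEquiv).symm
      have h4 : N = N.map σ.toMonoidHom := Subgroup.eq_of_le_of_card_ge h2 h3.le
      rw [← h4]
      exact hN1
  -- the subgroup generated by them
  set E : Subgroup P := ⨆ σ : Γ, N.map (σ : MulAut P).toMonoidHom with hE
  have hEB : E ≤ B := iSup_le fun σ => hσ σ σ.2
  have hEinv : ∀ τ ∈ Γ, ∀ k ∈ E, τ k ∈ E := by
    intro τ hτ k hk
    have h1 : E ≤ E.comap τ.toMonoidHom := by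
      refine iSup_le fun σ => ?_
      rintro _ ⟨n, hn, rfl⟩
      have h2 : N.map ((⟨τ * σ, Γ.mul_mem hτ σ.2⟩ : Γ) : MulAut P).toMonoidHom ≤ E :=
        le_iSup (fun σ : Γ => N.map (σ : MulAut P).toMonoidHom) ⟨τ * σ, Γ.mul_mem hτ σ.2⟩
      exact h2 ⟨n, hn, rfl⟩
    exact h1 hk
  have hEne : E ≠ ⊥ := by
    intro e
    apply hN2
    rw [eq_bot_iff, ← e]
    intro n hn
    have h2 : N.map ((⟨1, Γ.one_mem⟩ : Γ) : MulAut P).toMonoidHom ≤ E :=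
      le_iSup (fun σ : Γ => N.map (σ : MulAut P).toMonoidHom) ⟨1, Γ.one_mem⟩
    exact h2 ⟨n, hn, rfl⟩
  obtain ⟨k, hk, m, hm, e⟩ := h.fac_A (hEB.trans hBA) hEinv hEne hx ha
  exact hno k (hEB hk) m hm e

end Cfsg.Agent.H112.OC2
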