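import Cfsg.Agent.H112.OC2.Kill
import Cfsg.Agent.H112.OC2.Dec

/-!
# S3499 (task 6065, helper112): stabilisers of orthogonal decompositions into at least three blocks
-/

set_option autoImplicit false

namespace Cfsg.Agent.H112.OC2

open QuadraticMap Cfsg.Agent.LieClassical.OrthCore Cfsg.Agent.LieClassical.OrthTrans Cfsg.Agent.H284

variable {F V : Type*} [Field F] [AddCommGroup V] [Module F V] {Q : QuadraticForm F V}
variable {t k : ℕ} {D : Fin t → Submodule F V}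

theorem Dec.pres_mul {g h : V ≃ₗ[F] V} (hg : Pres D g) (hh : Pres D h) : Pres D (g * h) := by
  obtain ⟨σ, hσ⟩ := hg
  obtain ⟨τ, hτ⟩ := hh
  exact ⟨τ.trans σ, fun i w hw => hσ _ _ (hτ i w hw)⟩

theorem Dec.pres_inv [FiniteDimensional F V] (hD : Dec Q k D) {g : V ≃ₗ[F] V} (hg : Pres D g) : Pres D g⁻¹ := by
  obtain ⟨σ, hσ⟩ := hg
  refine ⟨σ.symm, fun i => hD.mem_of_inv ?_⟩
  intro w hw
  have := hσ (σ.symm i) w hw
  rwa [Equiv.apply_symm_apply] at this

/-- the situation -/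
structure Ctx {P : Type*} [Group P] (A : Subgroup P) (ρ : E Q →* P) (k : ℕ) (D : Fin t → Submodule F V) : Prop where
  good : Good Q
  dec : Dec Q k D
  surj : Function.Surjective ρ
  ker : ∀ g : E Q, ρ g = 1 → ∃ c : F, ∀ v, (g : V ≃ₗ[F] V) v = c • v
  stab : ∀ g : E Q, ρ g ∈ A → Pres D (g : V ≃ₗ[F] V)
  trans : ∀ i j, ∃ g : E Q, ρ g ∈ A ∧ ∀ w ∈ D i, (g : V ≃ₗ[F] V) w ∈ D j

variable {P : Type*} [Group P] {A : Subgroup P} {ρ : E Q →* P}

namespace Ctx

variable (c : Ctx A ρ k D)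

include c

theorem fd : FiniteDimensional F V := Module.finite_of_finrank_pos (by have := c.good.dim; omega)

theorem mem_A (hmax : IsCoatom A) {x : E Q} (hx : ¬ Pres D (x : V ≃ₗ[F] V)) {g : E Q} (hg : Pres D (g : V ≃ₗ[F] V)) :
    ρ g ∈ A := by
  have := c.fd
  let S : Subgroup (E Q) :=
    { carrier := {g | Pres D (g : V ≃ₗ[F] V)}
      mul_mem' := fun {a b} ha hb => Dec.pres_mul ha hb
      one_mem' := ⟨1, fun i w hw => hw⟩
      inv_mem' := fun {a} ha => c.dec.pres_inv ha }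
  have h1 : A ≤ S.map ρ := by
    intro a ha
    obtain ⟨a', rfl⟩ := c.surj a
    exact ⟨a', c.stab a' ha, rfl⟩
  by_cases h2 : S.map ρ = A
  · rw [← h2]
    exact ⟨g, hg, rfl⟩
  · exfalso
    have h3 := hmax.2 _ (lt_of_le_of_ne h1 (Ne.symm h2))
    have h4 : ρ x ∈ S.map ρ := by rw [h3]; trivial
    obtain ⟨s, hs, e⟩ := h4
    obtain ⟨a, ha⟩ := c.ker (s⁻¹ * x) (by rw [map_mul, map_inv, e, inv_mul_cancel])
    apply hx
    have h5 : Pres D ((s⁻¹ * x : E Q) : V ≃ₗ[F] V) := ⟨1, fun i w hw => by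
      rw [ha w]
      exact (D i).smul_mem a hw⟩
    have h6 := Dec.pres_mul hs h5
    have h7 : ((s : E Q) : V ≃ₗ[F] V) * ((s⁻¹ * x : E Q) : V ≃ₗ[F] V) = (x : V ≃ₗ[F] V) := by
      rw [← Subgroup.coe_mul, mul_inv_cancel_left]
    rwa [h7] at h6

theorem t1kill [Finite P] {Γ : Subgroup (MulAut P)} (h : EPT A Γ) {N : Subgroup (E Q)}
    (hN2 : ∀ g ∈ N, g * g = 1) (hNP : ∀ g ∈ N, Pres D (g : V ≃ₗ[F] V))
    (hNn : ∀ a : E Q, Pres D (a : V ≃ₗ[F] V) → ∀ n ∈ N, a * n * a⁻¹ ∈ N) {b : E Q} (hb : b ∈ N)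
    (hb1 : ∀ a : F, ¬ ∀ v, (b : V ≃ₗ[F] V) v = a • v) {x : E Q} (hx : ¬ Pres D (x : V ≃ₗ[F] V))
    (hxb : x * b = b * x) : False := by
  have : Fact (Nat.Prime 2) := ⟨Nat.prime_two⟩
  apply hx
  apply c.stab
  refine cent_mem (p := 2) h (N := N.map ρ) ?_ ?_ ?_ (b := ρ b) ⟨b, hb, rfl⟩ ?_ ?_
  · rintro _ ⟨n, hn, rfl⟩
    exact c.mem_A h.max hx (hNP n hn)
  · rintro a ha _ ⟨n, hn, rfl⟩
    obtain ⟨a', rfl⟩ := c.surj a
    exact ⟨a' * n * a'⁻¹, hNn a' (c.stab a' ha) n hn, by rw [map_mul, map_mul, map_inv]⟩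
  · rintro ⟨_, n, hn, rfl⟩
    refine ⟨1, Subtype.ext ?_⟩
    show (ρ n) ^ 2 ^ 1 = 1
    rw [pow_one, pow_two, ← map_mul, hN2 n hn, map_one]
  · intro e
    obtain ⟨a, ha⟩ := c.ker b e
    exact hb1 a ha
  · rw [← map_mul, hxb, map_mul]

end Ctx

/-- the element of `E Q` given by two vectors -/
theorem exists_elt (hG : Good Q) {v v' : V} (hv : Q v ≠ 0) (hv' : Q v' ≠ 0) (h : Q v' = Q v) :
    ∃ x : E Q, (x : V ≃ₗ[F] V) = refl Q v hv * refl Q v' hv' :=
  ⟨⟨refl Q v hv * refl Q v' hv', hG.refl_mul_refl_mem hv' hv h⟩, rfl⟩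

theorem refl_fix {v : V} (hv : Q v ≠ 0) {y : V} (h : polar Q v y = 0) : refl Q v hv y = y := by
  rw [refl_apply, h, mul_zero, zero_smul, sub_zero]

theorem refl_mem {v : V} (hv : Q v ≠ 0) {W : Submodule F V} (h : v ∈ W) {y : V} (hy : y ∈ W) : refl Q v hv y ∈ W := by
  rw [refl_apply]
  exact W.sub_mem hy (W.smul_mem _ h)

theorem Dec.refl_pres (hD : Dec Q k D) {v : V} (hv : Q v ≠ 0) {i : Fin t} (h : v ∈ D i) (j : Fin t) {y : V}
    (hy : y ∈ D j) : refl Q v hv y ∈ D j := by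
  by_cases hij : i = j
  · subst hij
    exact refl_mem hv h hy
  · rw [refl_fix hv (hD.orth i j hij v h y hy)]
    exact hy

/-- `x` moves `D i` to no `D j` -/
theorem Dec.mv_elt (hD : Dec Q k D) {v v' : V} (hv : Q v ≠ 0) (hv' : Q v' ≠ 0)
    {i : Fin t} (hv'i : v' ∈ D i) (hmv : ∀ l, ¬ ∀ y ∈ D i, refl Q v hv y ∈ D l) {x : V ≃ₗ[F] V}
    (hx : x = refl Q v hv * refl Q v' hv') (j : Fin t) : ¬ ∀ y ∈ D i, x⁻¹ y ∈ D j := by
  intro hcon
  apply hmv j
  intro y hy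
  have h1 := hcon y hy
  rw [hx, mul_inv_rev, refl_inv, refl_inv] at h1
  have h2 := hD.refl_pres hv' hv'i j h1
  have h3 : refl Q v' hv' ((refl Q v' hv' * refl Q v hv) y) = (refl Q v' hv' * refl Q v' hv') (refl Q v hv y) := rfl
  rw [h3, refl_mul_self] at h2
  exact h2

theorem Dec.not_pres [FiniteDimensional F V] (hD : Dec Q k D) {x : V ≃ₗ[F] V} {i : Fin t}
    (h : ∀ j, ¬ ∀ y ∈ D i, x⁻¹ y ∈ D j) : ¬ Pres D x := by
  rintro ⟨σ, hσ⟩
  apply h (σ.symm i)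
  apply hD.mem_of_inv
  intro w hw
  have := hσ (σ.symm i) w hw
  rwa [Equiv.apply_symm_apply] at this

/-- the elements of `E Q` preserving every `D i` -/
def Bh (Q : QuadraticForm F V) [FiniteDimensional F V] {D : Fin t → Submodule F V} (hD : Dec Q k D) :
    Subgroup (E Q) where
  carrier := {g | ∀ i, ∀ w ∈ D i, (g : V ≃ₗ[F] V) w ∈ D i}
  mul_mem' := fun ha hb i w hw => ha i _ (hb i w hw)
  one_mem' := fun _ _ hw => hw
  inv_mem' := fun ha i w hw => hD.mem_of_inv (ha i) w hw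

theorem Bh_norm [FiniteDimensional F V] (hD : Dec Q k D) {a : E Q} (ha : Pres D (a : V ≃ₗ[F] V)) {n : E Q}
    (hn : n ∈ Bh Q hD) : a * n * a⁻¹ ∈ Bh Q hD := by
  obtain ⟨σ, hσ⟩ := ha
  intro i w hw
  have h1 : (a : V ≃ₗ[F] V)⁻¹ w ∈ D (σ.symm i) := by
    refine hD.mem_of_inv (i := σ.symm i) (j := i) ?_ w hw
    intro y hy
    have := hσ (σ.symm i) y hy
    rwa [Equiv.apply_symm_apply] at this
  have h2 := hσ _ _ (hn _ _ h1)
  rw [Equiv.apply_symm_apply] at h2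
  exact h2

/-- reflections commute with isometries fixing the vector up to sign -/
theorem refl_comm_of {g : V ≃ₗ[F] V} (hg : g ∈ O Q) {v : V} (hv : Q v ≠ 0)
    (h : g v = v ∨ g v = -v) : refl Q v hv * g = g * refl Q v hv := by
  have hgv : Q (g v) ≠ 0 := by rw [mem_O.1 hg]; exact hv
  have h1 : g * refl Q v hv * g⁻¹ = refl Q v hv := by
    rw [refl_conj hg hv hgv]
    apply LinearEquiv.ext
    intro x
    rw [refl_apply, refl_apply, mem_O.1 hg]
    rcases h with h | h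
    · rw [h]
    · rw [h, polar_neg_left, smul_neg, mul_neg, neg_smul, neg_neg]
  calc refl Q v hv * g = g * refl Q v hv * g⁻¹ * g := by rw [h1]
    _ = g * refl Q v hv := by rw [inv_mul_cancel_right]

/-- the elements of `E Q` acting as `1` or `-1` on every `D i` -/
def Sg (Q : QuadraticForm F V) (D : Fin t → Submodule F V) : Subgroup (E Q) where
  carrier := {g | ∀ i, (∀ w ∈ D i, (g : V ≃ₗ[F] V) w = w) ∨ (∀ w ∈ D i, (g : V ≃ₗ[F] V) w = -w)}
  mul_mem' := by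
    intro a b ha hb i
    have e : ∀ w, ((a * b : E Q) : V ≃ₗ[F] V) w = (a : V ≃ₗ[F] V) ((b : V ≃ₗ[F] V) w) := fun _ => rfl
    rcases ha i with h1 | h1 <;> rcases hb i with h2 | h2
    · exact Or.inl fun w hw => by rw [e, h2 w hw, h1 w hw]
    · exact Or.inr fun w hw => by rw [e, h2 w hw, map_neg, h1 w hw]
    · exact Or.inr fun w hw => by rw [e, h2 w hw, h1 w hw]
    · exact Or.inl fun w hw => by rw [e, h2 w hw, map_neg, h1 w hw, neg_neg]
  one_mem' := fun _ => Or.inl fun _ _ => rfl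
  inv_mem' := by
    intro a ha i
    rcases ha i with h1 | h1
    · refine Or.inl fun w hw => ?_
      show (a : V ≃ₗ[F] V)⁻¹ w = w
      conv_lhs => rw [← h1 w hw]
      exact (a : V ≃ₗ[F] V).symm_apply_apply w
    · refine Or.inr fun w hw => ?_
      show (a : V ≃ₗ[F] V)⁻¹ w = -w
      have h2 := h1 (-w) ((D i).neg_mem hw)
      rw [neg_neg] at h2
      conv_lhs => rw [← h2]
      exact (a : V ≃ₗ[F] V).symm_apply_apply (-w)

namespace Ctx

variable (c : Ctx A ρ k D)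

include c

theorem inj (h2 : (2 : F) = 0) : Function.Injective ρ := by
  rw [injective_iff_map_eq_one]
  intro g hg
  obtain ⟨a, ha⟩ := c.ker g hg
  have hne : ∃ u, Q u ≠ 0 := by
    obtain ⟨x, y, hxy⟩ := c.good.exists_hyp
    refine ⟨x + y, ?_⟩
    rw [Q_add, hxy.left, hxy.right, hxy.pair]
    simp
  obtain ⟨u, hu⟩ := hne
  have h1 : Q ((g : V ≃ₗ[F] V) u) = Q u := E_le_O g.2 u
  rw [ha u, QuadraticMap.map_smul, smul_eq_mul] at h1
  have h3 : a * a = 1 := mul_right_cancel₀ hu (by rw [h1, one_mul])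
  have h4 : (a - 1) * (a - 1) = 0 := by linear_combination h3 + (1 - a) * h2
  have h5 : a = 1 := sub_eq_zero.1 (mul_self_eq_zero.1 h4)
  apply Subtype.ext
  apply LinearEquiv.ext
  intro v
  rw [ha v, h5, one_smul]
  rfl

/-- characteristic two, the general case -/
theorem kill_even [Finite P] {Γ : Subgroup (MulAut P)} (h : EPT A Γ) (h2 : (2 : F) = 0)
    (hspan : ∀ i, D i ≤ Submodule.span F {u | u ∈ D i ∧ Q u ≠ 0}) (hk : 2 ≤ k) (ht : 3 ≤ t) (htk : 7 ≤ t * k) :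
    False := by
  have := c.fd
  have hD := c.dec
  have hinj := c.inj h2
  obtain ⟨i, l, hil, v, v', hv, hvv', hv'i, hvl, hmv⟩ := hD.exists_mv hk ht htk
  have hv' : Q v' ≠ 0 := by rw [hvv']; exact hv
  obtain ⟨x, hxe⟩ := exists_elt c.good hv hv' hvv'
  have hxi := hD.mv_elt hv hv' hv'i hmv hxe
  have hxl : ∀ y ∈ D l, (x : V ≃ₗ[F] V) y = y := by
    intro y hy
    rw [hxe]
    show refl Q v hv (refl Q v' hv' y) = y
    rw [refl_fix hv' (hD.orth i l hil v' hv'i y hy), refl_fix hv (hvl y hy)]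
  have hxP : ¬ Pres D (x : V ≃ₗ[F] V) := hD.not_pres hxi
  obtain ⟨a0, ha0, ha0'⟩ := c.trans l i
  refine base_kill h (B := (Bh Q hD).map ρ) ?_ ?_ ?_ ?_ (x := ρ x) (fun hx => hxP (c.stab x hx)) ha0 ?_
  · rintro _ ⟨b, hb, rfl⟩
    exact c.mem_A h.max hxP ⟨1, hb⟩
  · rintro a ha _ ⟨b, hb, rfl⟩
    obtain ⟨a', rfl⟩ := c.surj a
    exact ⟨a' * b * a'⁻¹, Bh_norm hD (c.stab a' ha) hb, by rw [map_mul, map_mul, map_inv]⟩
  · intro hbot
    obtain ⟨u, hu, hQu⟩ := hD.exists_nonsing (by omega) i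
    have hu0 : u ≠ 0 := by
      rintro rfl
      exact hQu (map_zero Q)
    obtain ⟨w, hw, hw0, hQw⟩ := hD.exists_copy l hu hu0
    have hQw0 : Q w ≠ 0 := by rw [hQw]; exact hQu
    obtain ⟨b, hb⟩ := exists_elt c.good hQu hQw0 hQw
    have hbB : b ∈ Bh Q hD := by
      intro j y hy
      rw [hb]
      exact hD.refl_pres hQu hu j (hD.refl_pres hQw0 hw j hy)
    have h3 : ρ b ∈ (Bh Q hD).map ρ := ⟨b, hbB, rfl⟩
    rw [hbot, Subgroup.mem_bot, ← map_one ρ] at h3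
    have h4 : b = 1 := hinj h3
    obtain ⟨y, hy, huy⟩ := hD.nd i u hu hu0
    have h5 : (b : V ≃ₗ[F] V) y = y := by rw [h4]; rfl
    rw [hb] at h5
    have h6 : refl Q u hQu (refl Q w hQw0 y) = y := h5
    rw [refl_fix hQw0 (hD.orth l i hil.symm w hw y hy), refl_apply, sub_eq_self, smul_eq_zero] at h6
    rcases h6 with h6 | h6
    · exact (mul_ne_zero (inv_ne_zero hQu) huy) h6
    · exact hu0 h6
  · -- (G)
    intro N hNB hNne hNn a ha haN
    obtain ⟨a', rfl⟩ := c.surj a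
    obtain ⟨σ, hσ⟩ := c.stab a' ha
    suffices hfix : ∀ i, σ i = i by
      refine ⟨a', ?_, rfl⟩
      intro j w hw
      have := hσ j w hw
      rwa [hfix j] at this
    intro i
    by_contra hij
    -- an element of `N` acting nontrivially on `D i`
    obtain ⟨n, hnN, hnB, w, hw, hnw⟩ : ∃ n : E Q, ρ n ∈ N ∧ n ∈ Bh Q hD ∧ ∃ w ∈ D i, (n : V ≃ₗ[F] V) w ≠ w := by
      obtain ⟨n0, hn0⟩ := Subgroup.ne_bot_iff_exists_ne_one.1 hNne
      obtain ⟨n, hn, hn'⟩ := hNB n0.2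
      have hn1 : n ≠ 1 := by
        rintro rfl
        apply hn0
        apply Subtype.ext
        rw [← hn', map_one]
        rfl
      obtain ⟨i0, w, hw, hw1⟩ : ∃ i0, ∃ w ∈ D i0, (n : V ≃ₗ[F] V) w ≠ w := by
        by_contra hcon
        push Not at hcon
        apply hn1
        apply Subtype.ext
        exact hD.ext_equiv hcon
      obtain ⟨g, hg, hgi⟩ := c.trans i0 i
      refine ⟨g * n * g⁻¹, ?_, Bh_norm hD (c.stab g hg) hn, (g : V ≃ₗ[F] V) w, hgi w hw, ?_⟩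
      · rw [map_mul, map_mul, map_inv, hn']
        exact hNn _ hg _ n0.2
      · intro e
        apply hw1
        apply (g : V ≃ₗ[F] V).injective
        have h3 : ((g * n * g⁻¹ : E Q) : V ≃ₗ[F] V) ((g : V ≃ₗ[F] V) w) =
            (g : V ≃ₗ[F] V) ((n : V ≃ₗ[F] V) ((g : V ≃ₗ[F] V)⁻¹ ((g : V ≃ₗ[F] V) w))) := rfl
        have h4 : (g : V ≃ₗ[F] V)⁻¹ ((g : V ≃ₗ[F] V) w) = w := (g : V ≃ₗ[F] V).symm_apply_apply w
        rw [h3, h4] at e
        exact e
    -- a nonsingular vector moved by `n`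
    obtain ⟨u, hu, hQu, hnu⟩ : ∃ u ∈ D i, Q u ≠ 0 ∧ (n : V ≃ₗ[F] V) u ≠ u := by
      by_contra hcon
      push Not at hcon
      apply hnw
      have h3 : Submodule.span F {u | u ∈ D i ∧ Q u ≠ 0} ≤
          LinearMap.eqLocus (n : V ≃ₗ[F] V).toLinearMap LinearMap.id := by
        rw [Submodule.span_le]
        exact fun u hu => hcon u hu.1 hu.2
      exact h3 (hspan i hw)
    have hu0 : u ≠ 0 := by
      rintro rfl
      exact hQu (map_zero Q)
    obtain ⟨l', hl'i, hl'j⟩ : ∃ l' : Fin t, l' ≠ i ∧ l' ≠ σ i := by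
      by_contra hcon
      push Not at hcon
      have h3 : (Finset.univ : Finset (Fin t)) ⊆ {i, σ i} := by
        intro l' _
        rw [Finset.mem_insert, Finset.mem_singleton]
        by_cases h4 : l' = i
        · exact Or.inl h4
        · exact Or.inr (hcon l' h4)
      have h4 := (Finset.card_le_card h3).trans Finset.card_le_two
      rw [Finset.card_univ, Fintype.card_fin] at h4
      omega
    obtain ⟨u', hu', hu'0, hQu'⟩ := hD.exists_copy l' hu hu0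
    have hQu'0 : Q u' ≠ 0 := by rw [hQu']; exact hQu
    obtain ⟨d, hd⟩ := exists_elt c.good hQu hQu'0 hQu'
    have hdB : d ∈ Bh Q hD := by
      intro j y hy
      rw [hd]
      exact hD.refl_pres hQu hu j (hD.refl_pres hQu'0 hu' j hy)
    have hdi : ∀ y ∈ D i, (d : V ≃ₗ[F] V) y = refl Q u hQu y := by
      intro y hy
      rw [hd]
      show refl Q u hQu (refl Q u' hQu'0 y) = _
      rw [refl_fix hQu'0 (hD.orth l' i hl'i u' hu' y hy)]
    have hdj : ∀ y ∈ D (σ i), (d : V ≃ₗ[F] V) y = y := by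
      intro y hy
      rw [hd]
      show refl Q u hQu (refl Q u' hQu'0 y) = _
      rw [refl_fix hQu'0 (hD.orth l' (σ i) hl'j u' hu' y hy), refl_fix hQu (hD.orth i (σ i) (Ne.symm hij) u hu y hy)]
    -- the commutator
    have hmN : ρ (n * d * n⁻¹ * d⁻¹) ∈ N := by
      have e : n * d * n⁻¹ * d⁻¹ = n * (d * n⁻¹ * d⁻¹) := by group
      rw [e, map_mul]
      refine N.mul_mem hnN ?_
      rw [map_mul, map_mul, map_inv, map_inv]
      exact hNn _ (c.mem_A h.max hxP ⟨1, hdB⟩) _ (N.inv_mem hnN)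
    have hcomm : a' * (n * d * n⁻¹ * d⁻¹) = (n * d * n⁻¹ * d⁻¹) * a' := by
      apply hinj
      rw [map_mul ρ a', map_mul ρ (n * d * n⁻¹ * d⁻¹) a']
      exact haN _ hmN
    -- trivial on `D (σ i)`
    have hm1 : ∀ y ∈ D (σ i), ((n * d * n⁻¹ * d⁻¹ : E Q) : V ≃ₗ[F] V) y = y := by
      intro y hy
      have h3 : ((n * d * n⁻¹ * d⁻¹ : E Q) : V ≃ₗ[F] V) y =
        (n : V ≃ₗ[F] V) ((d : V ≃ₗ[F] V) ((n : V ≃ₗ[F] V)⁻¹ ((d : V ≃ₗ[F] V)⁻¹ y))) := rfl
      have h4 : (d : V ≃ₗ[F] V)⁻¹ y = y := by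
        conv_lhs => rw [← hdj y hy]
        exact (d : V ≃ₗ[F] V).symm_apply_apply y
      have h5 : (n : V ≃ₗ[F] V)⁻¹ y ∈ D (σ i) := hD.mem_of_inv (hnB (σ i)) y hy
      rw [h3, h4, hdj _ h5]
      exact (n : V ≃ₗ[F] V).apply_symm_apply y
    -- trivial on `D i`
    have hm2 : ∀ y ∈ D i, ((n * d * n⁻¹ * d⁻¹ : E Q) : V ≃ₗ[F] V) y = y := by
      intro y hy
      apply (a' : V ≃ₗ[F] V).injective
      have h3 : (a' : V ≃ₗ[F] V) (((n * d * n⁻¹ * d⁻¹ : E Q) : V ≃ₗ[F] V) y) =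
          ((a' * (n * d * n⁻¹ * d⁻¹) : E Q) : V ≃ₗ[F] V) y := rfl
      rw [h3, hcomm]
      exact hm1 _ (hσ i y hy)
    -- `n d = d n` on `D i`
    obtain ⟨z, hz, huz⟩ := hD.nd i u hu hu0
    have h3 : (n : V ≃ₗ[F] V) ((d : V ≃ₗ[F] V) z) = (d : V ≃ₗ[F] V) ((n : V ≃ₗ[F] V) z) := by
      have h4 := hm2 _ (hdB i _ (hnB i z hz))
      have h5 : ((n * d * n⁻¹ * d⁻¹ : E Q) : V ≃ₗ[F] V) ((d : V ≃ₗ[F] V) ((n : V ≃ₗ[F] V) z)) =
        ((n * d * n⁻¹ * d⁻¹ * d * n : E Q) : V ≃ₗ[F] V) z := rfl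
      have h6 : n * d * n⁻¹ * d⁻¹ * d * n = n * d := by group
      rw [h5, h6] at h4
      exact h4
    rw [hdi z hz, hdi _ (hnB i z hz), refl_apply, refl_apply, map_sub, map_smul, sub_right_inj] at h3
    have h4 : (n : V ≃ₗ[F] V) u = (((Q u)⁻¹ * polar Q u z)⁻¹ * ((Q u)⁻¹ * polar Q u ((n : V ≃ₗ[F] V) z))) • u := by
      rw [mul_smul, ← h3, smul_smul, inv_mul_cancel₀ (mul_ne_zero (inv_ne_zero hQu) huz), one_smul]
    set γ := ((Q u)⁻¹ * polar Q u z)⁻¹ * ((Q u)⁻¹ * polar Q u ((n : V ≃ₗ[F] V) z)) with hγ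
    have h5 : Q ((n : V ≃ₗ[F] V) u) = Q u := E_le_O n.2 u
    rw [h4, QuadraticMap.map_smul, smul_eq_mul] at h5
    have h6 : γ * γ = 1 := mul_right_cancel₀ hQu (by rw [h5, one_mul])
    have h7 : (γ - 1) * (γ - 1) = 0 := by linear_combination h6 + (1 - γ) * h2
    have h8 : γ = 1 := sub_eq_zero.1 (mul_self_eq_zero.1 h7)
    apply hnu
    rw [h4, h8, one_smul]
  · -- no factorisation
    rintro _ ⟨b, hb, rfl⟩ m hm hab
    obtain ⟨m', rfl⟩ := c.surj m
    have hm2 := mem_cj.1 (Subgroup.mem_inf.1 hm).2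
    rw [← map_inv, ← map_mul, ← map_mul] at hm2
    obtain ⟨τ, hτ⟩ := c.stab _ hm2
    rw [← map_mul] at hab
    have hab' : a0 = b * m' := hinj hab
    have hm' : ∀ y ∈ D l, (m' : V ≃ₗ[F] V) y ∈ D i := by
      intro y hy
      have h3 : m' = b⁻¹ * a0 := by rw [hab', inv_mul_cancel_left]
      have h4 : (m' : V ≃ₗ[F] V) y = (b : V ≃ₗ[F] V)⁻¹ ((a0 : V ≃ₗ[F] V) y) := by rw [h3]; rfl
      rw [h4]
      exact hD.mem_of_inv (hb i) _ (ha0' y hy)
    apply hxi (τ l)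
    intro z hz
    have h3 : (m' : V ≃ₗ[F] V)⁻¹ z ∈ D l := hD.mem_of_inv hm' z hz
    have h4 := hτ l _ h3
    have h5 : ((x⁻¹ * m' * x : E Q) : V ≃ₗ[F] V) ((m' : V ≃ₗ[F] V)⁻¹ z) =
      (x : V ≃ₗ[F] V)⁻¹ ((m' : V ≃ₗ[F] V) ((x : V ≃ₗ[F] V) ((m' : V ≃ₗ[F] V)⁻¹ z))) := rfl
    have h6 : (m' : V ≃ₗ[F] V) ((m' : V ≃ₗ[F] V)⁻¹ z) = z := (m' : V ≃ₗ[F] V).apply_symm_apply z
    rw [h5, hxl _ h3, h6] at h4
    exact h4

/-- the hyperbolic plane over the field with two elements -/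
theorem kill_exc [Finite P] {Γ : Subgroup (MulAut P)} (h : EPT A Γ) (h2 : (2 : F) = 0)
    {i : Fin t} (hspan : ¬ D i ≤ Submodule.span F {u | u ∈ D i ∧ Q u ≠ 0}) (hk : 2 ≤ k) (htk : 7 ≤ t * k) :
    False := by
  have := c.fd
  have hD := c.dec
  obtain ⟨u, hu, w, hw, hw0, hQw⟩ := exc_of h2 (hD.nd i) hspan
  have hk2 : k = 2 := le_antisymm (hD.exc_le hu) hk
  have ht4 : 4 ≤ t := by
    rw [hk2] at htk
    omega
  have hu0 : u ≠ 0 := by
    rintro rfl
    exact hu.ns (map_zero Q)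
  have hP : PP Q (D i) := ⟨u, hu.mem, w, hw, u, hu.mem, hu0, hw0, by rw [hQw, add_zero], hu.ns⟩
  have hneg : ∀ a : F, -a = a := fun a => by linear_combination (-a) * h2
  have hnegV : ∀ a : V, -a = a := fun a => by rw [← neg_one_smul F a, hneg, one_smul]
  let i0 : Fin t := ⟨0, by omega⟩
  let i1 : Fin t := ⟨1, by omega⟩
  let i2 : Fin t := ⟨2, by omega⟩
  let i3 : Fin t := ⟨3, by omega⟩
  have h01 : i0 ≠ i1 := by simp [i0, i1]
  have h02 : i0 ≠ i2 := by simp [i0, i2]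
  have h03 : i0 ≠ i3 := by simp [i0, i3]
  have h12 : i1 ≠ i2 := by simp [i1, i2]
  have h13 : i1 ≠ i3 := by simp [i1, i3]
  have h23 : i2 ≠ i3 := by simp [i2, i3]
  choose e he using hD.exc_all hu
  have hens := fun j => (he j).ns
  have hem := fun j => (he j).mem
  have heq : Q (e i1) = Q (e i0) := by
    obtain ⟨y, hy, hy0, hQy⟩ := hD.exists_copy i1 (hem i0) (fun h => hens i0 (by rw [h]; exact map_zero Q))
    rw [← hQy, (he i1).uniq y hy (by rw [hQy]; exact hens i0)]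
  obtain ⟨b, hb⟩ := exists_elt c.good (hens i0) (hens i1) heq
  have hbfix : ∀ y, polar Q (e i0) y = 0 → polar Q (e i1) y = 0 → (b : V ≃ₗ[F] V) y = y := by
    intro y h4 h5
    rw [hb]
    show refl Q (e i0) (hens i0) (refl Q (e i1) (hens i1) y) = y
    rw [refl_fix (hens i1) h5, refl_fix (hens i0) h4]
  obtain ⟨v, v', hv, hvv', hvm, hv'i, hmv⟩ := hD.pair_vec hk h23 (hD.pp_all hP i2)
  have hv' : Q v' ≠ 0 := by rw [hvv']; exact hv
  obtain ⟨x, hxe⟩ := exists_elt c.good hv hv' hvv'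
  have hxP : ¬ Pres D (x : V ≃ₗ[F] V) := hD.not_pres (hD.mv_elt hv hv' hv'i hmv hxe)
  have hbv : (b : V ≃ₗ[F] V) v = v := by
    obtain ⟨a, ha, a', ha', rfl⟩ := Submodule.mem_sup.1 hvm
    apply hbfix
    · rw [polar_add_right, hD.orth i0 i2 h02 _ (hem i0) a ha, hD.orth i0 i3 h03 _ (hem i0) a' ha', add_zero]
    · rw [polar_add_right, hD.orth i1 i2 h12 _ (hem i1) a ha, hD.orth i1 i3 h13 _ (hem i1) a' ha', add_zero]
  have hbv' : (b : V ≃ₗ[F] V) v' = v' :=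
    hbfix _ (hD.orth i0 i2 h02 _ (hem i0) v' hv'i) (hD.orth i1 i2 h12 _ (hem i1) v' hv'i)
  refine c.t1kill h (N := Bh Q hD) ?_ ?_ ?_ (b := b) ?_ ?_ hxP ?_
  · -- `g * g = 1`
    intro g hg
    have hgi : ∀ j, (g : V ≃ₗ[F] V) (e j) = e j := fun j =>
      (he j).uniq _ (hg j _ (hem j)) (by rw [mem_O.1 (E_le_O g.2)]; exact hens j)
    apply Subtype.ext
    refine hD.ext_equiv (f := ((g * g : E Q) : V ≃ₗ[F] V)) (g := 1) ?_
    intro j y hy
    show (g : V ≃ₗ[F] V) ((g : V ≃ₗ[F] V) y) = y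
    have h4 : (g : V ≃ₗ[F] V) y - y = 0 ∨ (g : V ≃ₗ[F] V) y - y = e j := by
      refine (he j).perp _ ((D j).sub_mem (hg j y hy) hy) ?_
      rw [polar_sub_right]
      have h5 := polar_map (E_le_O g.2) (e j) y
      rw [hgi j] at h5
      rw [h5, sub_self]
    rcases h4 with h4 | h4
    · have h5 := sub_eq_zero.1 h4
      rw [h5, h5]
    · have h5 : (g : V ≃ₗ[F] V) y = e j + y := sub_eq_iff_eq_add.1 h4
      rw [h5, map_add, hgi, h5, ← add_assoc]
      have h6 : e j + e j = 0 := by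
        have := hnegV (e j)
        nth_rewrite 1 [← this]
        rw [neg_add_cancel]
      rw [h6, zero_add]
  · exact fun g hg => ⟨1, hg⟩
  · exact fun a ha n hn => Bh_norm hD ha hn
  · intro j y hy
    rw [hb]
    exact hD.refl_pres (hens i0) (hem i0) j (hD.refl_pres (hens i1) (hem i1) j hy)
  · intro a ha
    have h4 := ha (e i2)
    rw [hbfix _ (hD.orth i0 i2 h02 _ (hem i0) _ (hem i2)) (hD.orth i1 i2 h12 _ (hem i1) _ (hem i2))] at h4
    have h5 : (1 - a) • e i2 = 0 := by rw [sub_smul, one_smul, ← h4, sub_self]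
    rcases smul_eq_zero.1 h5 with h6 | h6
    · have ha1 : a = 1 := (sub_eq_zero.1 h6).symm
      have hei0 : e i0 ≠ 0 := fun h => hens i0 (by rw [h]; exact map_zero Q)
      obtain ⟨y, hy, huy⟩ := hD.nd i0 (e i0) (hem i0) hei0
      have h7 := ha y
      rw [ha1, one_smul, hb] at h7
      have h8 : refl Q (e i0) (hens i0) (refl Q (e i1) (hens i1) y) = y := h7
      rw [refl_fix (hens i1) (hD.orth i1 i0 h01.symm _ (hem i1) y hy), refl_apply, sub_eq_self, smul_eq_zero] at h8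
      rcases h8 with h8 | h8
      · exact (mul_ne_zero (inv_ne_zero (hens i0)) huy) h8
      · exact hei0 h8
    · exact hens i2 (by rw [h6]; exact map_zero Q)
  · apply Subtype.ext
    show (x : V ≃ₗ[F] V) * (b : V ≃ₗ[F] V) = (b : V ≃ₗ[F] V) * (x : V ≃ₗ[F] V)
    rw [hxe, mul_assoc, refl_comm_of (E_le_O b.2) hv' (Or.inl hbv'), ← mul_assoc,
      refl_comm_of (E_le_O b.2) hv (Or.inl hbv), mul_assoc]

/-- odd characteristic: an element `x` commuting with some nonscalar element of `Sg` -/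
theorem kill_sg [Finite P] {Γ : Subgroup (MulAut P)} (h : EPT A Γ) (h2 : (2 : F) ≠ 0) (hk : 1 ≤ k)
    {b : V ≃ₗ[F] V} (hb : b ∈ ⁅O Q, O Q⁆)
    (hbs : ∀ i, (∀ w ∈ D i, b w = w) ∨ (∀ w ∈ D i, b w = -w)) {i j : Fin t} (hi : ∀ w ∈ D i, b w = w)
    (hj : ∀ w ∈ D j, b w = -w) {x : E Q} (hx : ¬ Pres D (x : V ≃ₗ[F] V)) (hxb : (x : V ≃ₗ[F] V) * b = b * x) :
    False := by
  have := c.fd
  have hD := c.dec
  have hbE : b ∈ E Q := c.good.commutator_le_E hb
  refine c.t1kill h (N := Sg Q D) ?_ ?_ ?_ (b := ⟨b, hbE⟩) hbs ?_ hx (Subtype.ext hxb)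
  · intro g hg
    apply Subtype.ext
    refine hD.ext_equiv (f := ((g * g : E Q) : V ≃ₗ[F] V)) (g := 1) ?_
    intro j y hy
    show (g : V ≃ₗ[F] V) ((g : V ≃ₗ[F] V) y) = y
    rcases hg j with h1 | h1
    · rw [h1 y hy, h1 y hy]
    · rw [h1 y hy, map_neg, h1 y hy, neg_neg]
  · intro g hg
    refine ⟨1, fun i w hw => ?_⟩
    rcases hg i with h1 | h1
    · rw [h1 w hw]
      exact hw
    · rw [h1 w hw]
      exact (D i).neg_mem hw
  · intro a ha n hn j
    obtain ⟨σ, hσ⟩ := hD.pres_inv ha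
    have e : ∀ w, ((a * n * a⁻¹ : E Q) : V ≃ₗ[F] V) w =
      (a : V ≃ₗ[F] V) ((n : V ≃ₗ[F] V) ((a : V ≃ₗ[F] V)⁻¹ w)) := fun _ => rfl
    have e2 : ∀ w, (a : V ≃ₗ[F] V) ((a : V ≃ₗ[F] V)⁻¹ w) = w := fun w => (a : V ≃ₗ[F] V).apply_symm_apply w
    rcases hn (σ j) with h1 | h1
    · refine Or.inl fun w hw => ?_
      rw [e, h1 _ (hσ j w hw), e2]
    · refine Or.inr fun w hw => ?_
      rw [e, h1 _ (hσ j w hw), map_neg, e2]
  · intro a ha
    obtain ⟨y, hy, hy0⟩ := hD.exists_ne hk i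
    obtain ⟨z, hz, hz0⟩ := hD.exists_ne hk j
    have h3 : b y = a • y := ha y
    have h4 : b z = a • z := ha z
    rw [hi y hy] at h3
    rw [hj z hz] at h4
    have h5 : a = 1 := by
      have : (1 - a) • y = 0 := by rw [sub_smul, one_smul, ← h3, sub_self]
      exact (sub_eq_zero.1 ((smul_eq_zero.1 this).resolve_right hy0)).symm
    rw [h5, one_smul] at h4
    apply hz0
    have h6 : (2 : F) • z = 0 := by
      rw [two_smul]
      nth_rewrite 1 [← h4]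
      rw [neg_add_cancel]
    exact (smul_eq_zero.1 h6).resolve_left h2

/-- odd characteristic, `k ≥ 2` -/
theorem kill_odd [Finite P] {Γ : Subgroup (MulAut P)} (h : EPT A Γ) (h2 : (2 : F) ≠ 0) (hk : 2 ≤ k) (ht : 3 ≤ t) :
    False := by
  have := c.fd
  have hD := c.dec
  let i0 : Fin t := ⟨0, by omega⟩
  let i1 : Fin t := ⟨1, by omega⟩
  let i2 : Fin t := ⟨2, by omega⟩
  have h01 : i0 ≠ i1 := by simp [i0, i1]
  have h02 : i0 ≠ i2 := by simp [i0, i2]
  have h12 : i1 ≠ i2 := by simp [i1, i2]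
  have hP : PP Q (D i0) := (hD.pp_or hk i0).resolve_right fun h3 => h2 h3.2.1
  obtain ⟨b, hb, hb0, hb1, hb2⟩ := hD.neg_pair c.good.nondeg h01
  obtain ⟨v, v', hv, hvv', hvm, hv'i, hmv⟩ := hD.pair_vec hk h01 hP
  have hv' : Q v' ≠ 0 := by rw [hvv']; exact hv
  obtain ⟨x, hxe⟩ := exists_elt c.good hv hv' hvv'
  have hxP : ¬ Pres D (x : V ≃ₗ[F] V) := hD.not_pres (hD.mv_elt hv hv' hv'i hmv hxe)
  have hbO : b ∈ O Q := E_le_O (c.good.commutator_le_E hb)
  have hbv : b v = -v := by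
    obtain ⟨a, ha, a', ha', rfl⟩ := Submodule.mem_sup.1 hvm
    rw [map_add, hb0 a ha, hb1 a' ha', neg_add]
  refine c.kill_sg h h2 (by omega) hb ?_ (hb2 i2 h02.symm h12.symm) hb0 hxP ?_
  · intro i
    by_cases h3 : i = i0
    · exact Or.inr (by rw [h3]; exact hb0)
    · by_cases h4 : i = i1
      · exact Or.inr (by rw [h4]; exact hb1)
      · exact Or.inl (hb2 i h3 h4)
  · rw [hxe, mul_assoc, refl_comm_of hbO hv' (Or.inr (hb0 v' hv'i)), ← mul_assoc,
      refl_comm_of hbO hv (Or.inr hbv), mul_assoc]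

/-- odd characteristic, at least seven blocks -/
theorem kill_seven [Finite P] {Γ : Subgroup (MulAut P)} (h : EPT A Γ) (h2 : (2 : F) ≠ 0) (hk : 1 ≤ k) (ht : 7 ≤ t) :
    False := by
  have := c.fd
  have hD := c.dec
  let i0 : Fin t := ⟨0, by omega⟩
  let i1 : Fin t := ⟨1, by omega⟩
  let i2 : Fin t := ⟨2, by omega⟩
  let i3 : Fin t := ⟨3, by omega⟩
  let i4 : Fin t := ⟨4, by omega⟩
  let i5 : Fin t := ⟨5, by omega⟩
  let i6 : Fin t := ⟨6, by omega⟩
  have h56 : i5 ≠ i6 := by simp [i5, i6]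
  obtain ⟨u, hu, hQu⟩ := hD.exists_nonsing hk i0
  have hu0 : u ≠ 0 := by
    rintro rfl
    exact hQu (map_zero Q)
  choose w hw hw0 hQw using fun j => hD.exists_copy j hu hu0
  have hp : ∀ i j, i ≠ j → polar Q (w i) (w j) = 0 := fun i j hij => hD.orth i j hij _ (hw i) _ (hw j)
  have hpp : ∀ i, polar Q (w i) (w i) = 2 * Q u := fun i => by rw [polar_self', hQw]
  have h2u : 2 * Q u ≠ 0 := mul_ne_zero h2 hQu
  obtain ⟨b, hb, hb5, hb6, hbo⟩ := hD.neg_pair c.good.nondeg h56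
  have hbO : b ∈ O Q := E_le_O (c.good.commutator_le_E hb)
  -- the two vectors
  obtain ⟨v, v', hv, hvv', hbv, hbv', hv0, hv1, hv2, hv'0⟩ : ∃ v v' : V, Q v ≠ 0 ∧ Q v' = Q v ∧ b v = v ∧ b v' = v' ∧
      polar Q v (w i0) ≠ 0 ∧ polar Q v (w i1) ≠ 0 ∧ polar Q v (w i2) ≠ 0 ∧ polar Q v' (w i0) = 0 := by
    have hb0 : b (w i0) = w i0 := hbo i0 (by simp [i0, i5]) (by simp [i0, i6]) _ (hw i0)
    have hb1 : b (w i1) = w i1 := hbo i1 (by simp [i1, i5]) (by simp [i1, i6]) _ (hw i1)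
    have hb2 : b (w i2) = w i2 := hbo i2 (by simp [i2, i5]) (by simp [i2, i6]) _ (hw i2)
    have hb3 : b (w i3) = w i3 := hbo i3 (by simp [i3, i5]) (by simp [i3, i6]) _ (hw i3)
    have hb4 : b (w i4) = w i4 := hbo i4 (by simp [i4, i5]) (by simp [i4, i6]) _ (hw i4)
    have h01 := hp i0 i1 (by simp [i0, i1])
    have h02 := hp i0 i2 (by simp [i0, i2])
    have h03 := hp i0 i3 (by simp [i0, i3])
    have h10 := hp i1 i0 (by simp [i0, i1])
    have h12 := hp i1 i2 (by simp [i1, i2])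
    have h13 := hp i1 i3 (by simp [i1, i3])
    have h20 := hp i2 i0 (by simp [i0, i2])
    have h21 := hp i2 i1 (by simp [i1, i2])
    have h23 := hp i2 i3 (by simp [i2, i3])
    have h24 := hp i2 i4 (by simp [i2, i4])
    have h30 := hp i3 i0 (by simp [i0, i3])
    have h31 := hp i3 i1 (by simp [i1, i3])
    have h32 := hp i3 i2 (by simp [i2, i3])
    have h34 := hp i3 i4 (by simp [i3, i4])
    have h40 := hp i4 i0 (by simp [i0, i4])
    by_cases h3 : (3 : F) = 0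
    · have e1 : Q (w i0 + w i1 + w i2 + w i3) = Q u := by
        rw [Q_add, Q_add, Q_add, polar_add_left, polar_add_left, polar_add_left, h01, h02, h12, h03, h13, h23,
          hQw, hQw, hQw, hQw]
        linear_combination Q u * h3
      refine ⟨w i0 + w i1 + w i2 + w i3, w i4, by rw [e1]; exact hQu, by rw [e1, hQw], ?_, hb4, ?_, ?_, ?_, h40⟩
      · rw [map_add, map_add, map_add, hb0, hb1, hb2, hb3]
      · rw [polar_add_left, polar_add_left, polar_add_left, hpp, h10, h20, h30]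
        simpa using h2u
      · rw [polar_add_left, polar_add_left, polar_add_left, h01, hpp, h21, h31]
        simpa using h2u
      · rw [polar_add_left, polar_add_left, polar_add_left, h02, h12, hpp, h32]
        simpa using h2u
    · have e1 : Q (w i0 + w i1 + w i2) = 3 * Q u := by
        rw [Q_add, Q_add, polar_add_left, h01, h02, h12, hQw, hQw, hQw]
        ring
      have e2 : Q (w i2 + w i3 + w i4) = 3 * Q u := by
        rw [Q_add, Q_add, polar_add_left, h23, h24, h34, hQw, hQw, hQw]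
        ring
      refine ⟨w i0 + w i1 + w i2, w i2 + w i3 + w i4, by rw [e1]; exact mul_ne_zero h3 hQu, by rw [e1, e2], ?_, ?_,
        ?_, ?_, ?_, ?_⟩
      · rw [map_add, map_add, hb0, hb1, hb2]
      · rw [map_add, map_add, hb2, hb3, hb4]
      · rw [polar_add_left, polar_add_left, hpp, h10, h20]
        simpa using h2u
      · rw [polar_add_left, polar_add_left, h01, hpp, h21]
        simpa using h2u
      · rw [polar_add_left, polar_add_left, h02, h12, hpp]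
        simpa using h2u
      · rw [polar_add_left, polar_add_left, h20, h30, h40, add_zero, add_zero]
  have hv' : Q v' ≠ 0 := by rw [hvv']; exact hv
  obtain ⟨x, hxe⟩ := exists_elt c.good hv hv' hvv'
  have hx0 : (x : V ≃ₗ[F] V) (w i0) = w i0 - ((Q v)⁻¹ * polar Q v (w i0)) • v := by
    rw [hxe]
    show refl Q v hv (refl Q v' hv' (w i0)) = _
    rw [refl_fix hv' hv'0, refl_apply]
  have hα : (Q v)⁻¹ * polar Q v (w i0) ≠ 0 := mul_ne_zero (inv_ne_zero hv) hv0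
  have hxP : ¬ Pres D (x : V ≃ₗ[F] V) := by
    rintro ⟨σ, hσ⟩
    have h3 := hσ i0 _ (hw i0)
    rw [hx0] at h3
    have key : ∀ j, j ≠ i0 → polar Q v (w j) ≠ 0 → σ i0 = j := by
      intro j hj hvj
      by_contra hne
      have h4 := hD.orth _ _ hne _ h3 _ (hw j)
      rw [polar_sub_left, polar_smul_left, hp i0 j hj.symm, smul_eq_mul, zero_sub, neg_eq_zero] at h4
      exact (mul_ne_zero hα hvj) h4
    have h5 := key i1 (by simp [i0, i1]) hv1
    have h6 := key i2 (by simp [i0, i2]) hv2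
    rw [h5] at h6
    exact absurd h6 (by simp [i1, i2])
  refine c.kill_sg h h2 hk hb ?_ (hbo i0 (by simp [i0, i5]) (by simp [i0, i6])) hb5 hxP ?_
  · intro i
    by_cases h3 : i = i5
    · exact Or.inr (by rw [h3]; exact hb5)
    · by_cases h4 : i = i6
      · exact Or.inr (by rw [h4]; exact hb6)
      · exact Or.inl (hbo i h3 h4)
  · rw [hxe, mul_assoc, refl_comm_of hbO hv' (Or.inl hbv'), ← mul_assoc,
      refl_comm_of hbO hv (Or.inl hbv), mul_assoc]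

/-- **Stabilisers of orthogonal decompositions into at least three blocks.** -/
theorem kill [Finite P] {Γ : Subgroup (MulAut P)} (h : EPT A Γ) (hk : 1 ≤ k) (ht : 3 ≤ t) (htk : 7 ≤ t * k) :
    False := by
  have hD := c.dec
  by_cases h2 : (2 : F) = 0
  · have hk2 : 2 ≤ k := by
      by_contra hne
      have hk1 : k = 1 := by omega
      obtain ⟨w, hw, hw0⟩ := hD.exists_ne hk ⟨0, by omega⟩
      obtain ⟨y, hy, hwy⟩ := hD.nd _ w hw hw0
      apply hwy
      have h3 : Module.finrank F (D ⟨0, by omega⟩) = 1 := by rw [hD.fr, hk1]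
      obtain ⟨a, ha⟩ := (finrank_eq_one_iff_of_nonzero' (⟨w, hw⟩ : D ⟨0, by omega⟩)
        (fun h => hw0 (congrArg Subtype.val h))).1 h3 ⟨y, hy⟩
      have h4 : y = a • w := (congrArg Subtype.val ha).symm
      rw [h4, polar_smul_right, polar_self', h2, zero_mul, smul_zero]
    by_cases hspan : ∀ i, D i ≤ Submodule.span F {u | u ∈ D i ∧ Q u ≠ 0}
    · exact c.kill_even h h2 hspan hk2 ht htk
    · push Not at hspan
      obtain ⟨i, hi⟩ := hspan
      exact c.kill_exc h h2 hi hk2 htk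
  · by_cases hk2 : 2 ≤ k
    · exact c.kill_odd h h2 hk2 ht
    · have hk1 : k = 1 := by omega
      rw [hk1, mul_one] at htk
      exact c.kill_seven h h2 hk htk

end Ctx

end Cfsg.Agent.H112.OC2
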